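import Cfsg.Agent.HY.B
import Cfsg.Agent.H9.Loc2
import Cfsg.Agent.MT.Gen

/-! Hayden's theorem: a three-central centralizer of `PSp₄(3^m)` type, three-closed case. -/

set_option autoImplicit false
set_option linter.unusedSectionVars false
set_option linter.unusedVariables false

namespace HY

open Cfsg FT H4 GW H9.HC
open Subgroup hiding one
open H5 (IsSylowOf mem_of_eq)
open H9 (HC)

variable {G F : Type*} [Group G] [Finite G] [Field F] [Finite F]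

/-- the basic setting -/
structure S0 (ι : HC F →* G) : Prop where
  h3 : (3 : F) = 0
  inj : Function.Injective ι
  cen : ∀ z : F, z ≠ 0 → Cen1 (ι (zz z)) = ι.range

namespace S0

variable {ι : HC F →* G} (s : S0 ι) {n g : G} {z : F}
include s

theorem mm {X : Subgroup (HC F)} {a : HC F} : ι a ∈ X.map ι ↔ a ∈ X := mem_map_iff_mem s.inj

theorem ne1 {a : HC F} (h : a ≠ 1) : ι a ≠ 1 := fun e => h (s.inj (e.trans (map_one ι).symm))

theorem cm {a b : HC F} : ι a * ι b = ι b * ι a ↔ a * b = b * a := by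
  rw [← map_mul, ← map_mul, s.inj.eq_iff]

theorem cz (hg : g ∈ ι.range) (z : F) : g * ι (zz z) = ι (zz z) * g := by
  obtain ⟨g, rfl⟩ := hg
  exact s.cm.2 (zz_comm z g)

theorem aut (hn : n ∈ Nor ι.range) : ∃ φ : HC F ≃* HC F, ∀ a, ι (φ a) = n * ι a * n⁻¹ :=
  ⟨(MonoidHom.ofInjective s.inj).trans ((normalizerMonoidHom ι.range ⟨n, hn⟩).trans
    (MonoidHom.ofInjective s.inj).symm), fun a => by
    simp only [MulEquiv.trans_apply]
    rw [MonoidHom.apply_ofInjective_symm]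
    rfl⟩

theorem nZ (hn : n ∈ Nor ι.range) (z : F) : ∃ z', n * ι (zz z) * n⁻¹ = ι (zz z') := by
  obtain ⟨φ, h⟩ := s.aut hn
  obtain ⟨z', e⟩ := aut_Z s.h3 φ z
  exact ⟨z', by rw [e, h]⟩

theorem norZ : Nor ι.range ≤ Nor ((Z0 F).map ι) := fun n hn => mnor <| by
  rintro _ ⟨_, ⟨z, rfl⟩, rfl⟩
  obtain ⟨z', e⟩ := s.nZ hn z
  exact e ▸ s.mm.2 (zz_mem z')

theorem nQ (hn : n ∈ Nor ι.range) (hg : g ∈ (Q0 F).map ι) : n * g * n⁻¹ ∈ (Q0 F).map ι := by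
  obtain ⟨φ, h⟩ := s.aut hn
  obtain ⟨a, ha, rfl⟩ := hg
  exact h a ▸ s.mm.2 (aut_Q s.h3 φ ha)

theorem of_cz (hz : z ≠ 0) (h : g * ι (zz z) = ι (zz z) * g) : g ∈ ι.range :=
  s.cen z hz ▸ c1.2 h

theorem of_zz (hz : z ≠ 0) {z' : F} (h : g * ι (zz z) * g⁻¹ = ι (zz z')) : g ∈ Nor ι.range := by
  have h1 : z' ≠ 0 := fun e => s.ne1 (zz_ne hz) (by simpa [e, zz_zero] using h)
  refine mnor fun k hk => s.of_cz h1 ?_
  rw [← h]
  calc _ = g * (k * ι (zz z)) * g⁻¹ := by group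
    _ = _ := by rw [s.cz hk]; group

theorem cubeM (hg : g ∈ (M0 F).map ι) : g ^ 3 = 1 := by
  obtain ⟨a, ha, rfl⟩ := hg
  rw [← map_pow, M0_cube s.h3 ha, map_one]

theorem commM {a b : G} (ha : a ∈ (M0 F).map ι) (hb : b ∈ (M0 F).map ι) : a * b = b * a := by
  obtain ⟨a, ha, rfl⟩ := ha
  obtain ⟨b, hb, rfl⟩ := hb
  exact s.cm.2 (M0_comm ha hb)

theorem zM (z : F) : ι (zz z) ∈ (M0 F).map ι := s.mm.2 (Z0_le_M0 (zz_mem z))

theorem z1 : ι (zz 1) ≠ 1 := s.ne1 (zz_ne one_ne_zero)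

theorem three (hn : n ∈ Nor ι.range) {k : ℕ} (h : n ^ 3 ^ k = 1) : n ∈ ι.range := by
  obtain ⟨_, ⟨_, ⟨z, rfl⟩, rfl⟩, h1, -, -, h2⟩ := U6.exists_fixed (p := 3) (N := (Z0 F).map ι)
    (pg_of_cube fun a ha => s.cubeM (map_mono Z0_le_M0 ha)) (pg_zp h)
    (zpowers_le.2 (s.norZ hn)) fun e => s.z1 (mem_bot.1 (e ▸ s.mm.2 (zz_mem 1)))
  exact s.of_cz (fun e => h1 (by rw [e, zz_zero, map_one])) (GW.cen.1 h2 n (mem_zpowers n)).symm

theorem three' (hn : n ∈ Nor ι.range) (h : n ^ 3 = 1) : n ∈ ι.range :=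
  s.three hn (k := 1) (by rwa [pow_one])

theorem inZ (hg : g ∈ ι.range) (h : ∀ w ∈ (Q0 F).map ι, g * w = w * g) : ∃ z, ι (zz z) = g := by
  obtain ⟨a, rfl⟩ := hg
  obtain ⟨z, e⟩ := cen_Q s.h3 fun w hw => s.cm.1 (h _ (s.mm.2 hw))
  exact ⟨z, by rw [e]⟩

theorem nU : Nor ((U F).map ι) ≤ Nor ι.range := fun n hn => by
  have h1 : ι (zz 1) ∈ (U F).map ι := s.mm.2 (Z0_le_Q0 (zz_mem 1)).1
  obtain ⟨z, e⟩ := s.inZ (map_le_range _ _ (cmem hn h1)) fun w hw => by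
    have := s.cz (map_le_range _ _ (cmem' hn (map_mono (fun a ha => And.left ha) hw))) 1
    calc _ = n * (ι (zz 1) * (n⁻¹ * w * n)) * n⁻¹ := by group
      _ = _ := by rw [← this]; group
  exact s.of_zz one_ne_zero e.symm

theorem conjM {A : Subgroup G} (hA : A ≤ ι.range) (hc : ∀ a ∈ A, ∀ b ∈ A, a * b = b * a)
    (hp : IsPGroup 3 A) (hcard : Nat.card A = Nat.card F ^ 3) :
    ∃ c ∈ ι.range, ∀ a, a ∈ A ↔ c⁻¹ * a * c ∈ (M0 F).map ι := by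
  obtain ⟨k, hk⟩ := exists_conj_le_U (three_dvd s.h3) (hp.comap_of_injective ι s.inj)
  let j : HC F →* G := ι.comp (MulAut.conj k).toMonoidHom
  have hj : Function.Injective j := s.inj.comp (MulAut.conj k).injective
  have hj' : ∀ r, j (k⁻¹ * r * k) = ι r := fun r => by simp [j, mul_assoc]
  have e := eq_M0 (two_ne s.h3) (A := A.comap j) (fun a ha => mem_of_eq (hk (k * a * k⁻¹) ha) (by group))
    (fun a ha b hb => hj (by rw [map_mul, map_mul]; exact hc _ ha _ hb)) (by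
      rw [Nat.card_congr (equivMapOfInjective _ _ hj).toEquiv, map_comap_eq_self, hcard]
      intro a ha
      obtain ⟨b, rfl⟩ := hA ha
      exact ⟨_, hj' b⟩)
  refine ⟨ι k, ⟨k, rfl⟩, fun a => ⟨fun ha => ?_, fun ⟨b, hb, e1⟩ => ?_⟩⟩
  · obtain ⟨b, rfl⟩ := hA ha
    rw [← map_inv, ← map_mul, ← map_mul, s.mm, ← e, mem_comap, hj']
    exact ha
  · rw [← e] at hb
    exact mem_of_eq hb (by simp [j, e1, mul_assoc])

theorem cardM : Nat.card ((M0 F).map ι) = Nat.card F ^ 3 := by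
  rw [← card_M0, Nat.card_congr (equivMapOfInjective _ _ s.inj).toEquiv]

theorem cenM {y : G} (hy : y ∈ (M0 F).map ι) (yZ : y ∉ (Z0 F).map ι) (hg : g ∈ ι.range)
    (h : g * y = y * g) : g ∈ (M0 F).map ι ∨ (y ∉ (Q0 F).map ι ∧ (∀ k, g ^ 3 ^ k ≠ 1) ∧
      ∀ g' ∈ ι.range, g' * y = y * g' → g' ∉ (M0 F).map ι → g * g' ∈ (M0 F).map ι) := by
  obtain ⟨y, hy, rfl⟩ := hy
  obtain ⟨g, rfl⟩ := hg
  rw [s.mm] at yZ
  rw [s.cm] at h
  refine (cen_M s.h3 hy yZ h).imp s.mm.2 fun ⟨h1, h2, h3⟩ => ⟨s.mm.not.2 h1, fun k => by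
    rw [← map_pow]; exact s.ne1 (not_three s.h3 h2 h3), ?_⟩
  rintro _ ⟨g', rfl⟩ h' hn
  rw [s.cm] at h'
  obtain ⟨-, h4, h5⟩ := (cen_M s.h3 hy yZ h').resolve_left (s.mm.not.1 hn)
  rw [← map_mul, s.mm]
  refine (cen_M s.h3 hy yZ (by rw [mul_assoc, h', ← mul_assoc, h, mul_assoc])).resolve_right
    fun e => neg_one_ne s.h3 (e.2.2.symm.trans ?_)
  simp [h3, h4, h5]

theorem fix (hn : n ∈ Nor ι.range) {y a : G} (hy : y ∈ (M0 F).map ι) (yQ : y ∉ (Q0 F).map ι)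
    (ha : a ∈ (M0 F).map ι) (aQ : a ∈ (Q0 F).map ι) (aZ : a ∉ (Z0 F).map ι)
    (e1 : n * y = y * n) (e2 : n * a = a * n) : n ∈ ι.range := by
  obtain ⟨φ, h⟩ := s.aut hn
  obtain ⟨y, hy, rfl⟩ := hy
  obtain ⟨a, ha, rfl⟩ := ha
  obtain ⟨z, hz, e⟩ := aut_fix s.h3 φ hy (s.mm.not.1 yQ) ha (s.mm.1 aQ) (s.mm.not.1 aZ)
    (s.inj (by rw [h, e1, mul_inv_cancel_right])) (s.inj (by rw [h, e2, mul_inv_cancel_right]))
  exact s.of_cz hz (by rw [← mul_inv_eq_iff_eq_mul, ← h, e])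

theorem inv (hn : n ∈ Nor ι.range) (nC : n ∉ ι.range) (h2 : n * n ∈ ι.range) (z : F) :
    n * ι (zz z) * n⁻¹ = (ι (zz z))⁻¹ := by
  obtain ⟨z', e⟩ := s.nZ hn z
  by_contra ne
  refine nC (s.of_cz (z := z' + z) (fun e1 => ne ?_) ?_)
  · rw [e, ← map_inv, ← zz_neg, eq_neg_of_add_eq_zero_left e1]
  · rw [← mul_inv_eq_iff_eq_mul]
    nth_rewrite 2 [add_comm]
    rw [zz_add, zz_add, map_mul, map_mul, ← e]
    calc _ = n * n * ι (zz z) * (n * n)⁻¹ * (n * ι (zz z) * n⁻¹) := by group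
      _ = _ := by rw [s.cz h2, mul_inv_cancel_right]

end S0

/-- the three-closed setting -/
structure St (ι : HC F →* G) (m : ℕ) : Prop extends S0 ι where
  odd : Odd m
  one : 1 < m
  card : Nat.card F = 3 ^ m
  nm : Nor ((M0 F).map ι) ≤ Nor ι.range

namespace St

variable {ι : HC F →* G} {m : ℕ} (s : St ι m) {n g : G} {z : F}
include s

theorem big (z : F) : ∃ w : F, ι (zz w) ∉ zpowers (ι (zz z)) := by
  by_contra! h
  have h1 := Nat.card_le_card_of_injective (fun w => (⟨_, h w⟩ : zpowers (ι (zz z))))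
    fun a b e => zz_inj (s.inj (congrArg Subtype.val e))
  have h2 := orderOf_le_of_pow_eq_one (by norm_num) (s.cubeM (s.zM z))
  have h3 := Nat.pow_lt_pow_right (a := 3) (by norm_num) s.one
  rw [Nat.card_zpowers, s.card] at h1
  omega

theorem K1 (h : ∀ a ∈ (M0 F).map ι, g * a * g⁻¹ ∈ ι.range) : g ∈ Nor ι.range := by
  obtain ⟨c, hc, e⟩ := s.conjM (A := conjS g ((M0 F).map ι)) (by rintro _ ⟨a, ha, rfl⟩; exact h a ha)
    (by
      rintro _ ⟨a, ha, rfl⟩ _ ⟨b, hb, rfl⟩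
      rw [← map_mul, ← map_mul, s.commM ha hb])
    ((pg_of_cube fun a => s.cubeM).map _) (by rw [card_conjS, s.cardM])
  exact mem_of_eq (mul_mem (le_normalizer hc) (s.nm (mnor (g := c⁻¹ * g) fun a ha =>
    mem_of_eq ((e _).1 (mem_map_of_mem _ ha)) (by simp [mul_assoc])))) (by group)

theorem conj3 (hg : g ∈ ι.range) (h : g ^ 3 = 1) : ∃ c ∈ ι.range, c * g * c⁻¹ ∈ (M0 F).map ι := by
  obtain ⟨g, rfl⟩ := hg
  obtain ⟨k, hk⟩ := conj_M s.h3 (y := g) (s.inj (by rw [map_pow, h, map_one]))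
  exact ⟨ι k, ⟨k, rfl⟩, by rw [← map_inv, ← map_mul, ← map_mul]; exact s.mm.2 hk⟩

theorem K3 (hz : z ≠ 0) (h : g * ι (zz z) * g⁻¹ ∈ Nor ι.range) : g ∈ Nor ι.range := by
  have h3 := cube_conj (s.cubeM (s.zM z)) g
  obtain ⟨c, hc, e⟩ := s.conj3 (s.three' h h3) h3
  have := s.K1 (g := (c * g)⁻¹) fun a ha => s.of_cz hz (by
    calc _ = (c * g)⁻¹ * (a * (c * (g * ι (zz z) * g⁻¹) * c⁻¹)) * (c * g) := by group
      _ = _ := by rw [s.commM ha e]; group)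
  exact mem_of_eq (mul_mem (inv_mem (le_normalizer hc)) (inv_mem this)) (by group)

theorem step1 {x : G} (hx : x ∈ (M0 F).map ι) (x1 : x ≠ 1) : Cen1 x ≤ Nor ι.range := by
  by_contra hn
  obtain ⟨Y, ⟨YM, Y0, YN⟩, -, mx⟩ := H9.exists_maximal_ge
    (fun Y : Subgroup G => Y ≤ (M0 F).map ι ∧ Y ≠ ⊥ ∧ ¬ Cen Y ≤ Nor ι.range)
    (H := zpowers x) ⟨zpowers_le.2 hx, zpowers_ne_bot.2 x1, by rwa [cen_zp]⟩
  have MC : (M0 F).map ι ≤ ι.range := map_le_range _ _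
  have MH : (M0 F).map ι ≤ Cen Y := fun a ha => GW.cen.2 fun y hy => s.commM ha (YM hy)
  have YZ : ∀ y ∈ Y, y ∈ (Z0 F).map ι → y = 1 := by
    rintro _ hy ⟨_, ⟨z, rfl⟩, rfl⟩
    by_contra e
    exact YN fun g hg => le_normalizer (s.of_cz (fun e1 => e (by rw [e1, zz_zero, map_one]))
      (GW.cen.1 hg _ hy))
  obtain ⟨y, hy, y1⟩ := Y.bot_or_exists_ne_one.resolve_left Y0
  have yZ : y ∉ (Z0 F).map ι := fun e => y1 (YZ y hy e)
  have c3 : ∀ g ∈ ι.range, g ∈ Cen Y → ∀ k, g ^ 3 ^ k = 1 → g ∈ (M0 F).map ι := fun g h1 h2 k e =>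
    (s.cenM (YM hy) yZ h1 (GW.cen.1 h2 y hy)).resolve_right fun h => h.2.1 k e
  have HN : ∀ n ∈ Cen Y, n ∈ Nor ι.range → n ∈ Nor ((M0 F).map ι) := fun n h1 h2 =>
    mnor fun a ha => c3 _ (cmem h2 (MC ha)) (mul_mem (mul_mem h1 (MH ha)) (inv_mem h1)) 1
      (by rw [pow_one]; exact cube_conj (s.cubeM ha) n)
  suffices h : ∃ A, Y ≤ A ∧ A ≤ (M0 F).map ι ∧ (∃ x ∈ A, x ∉ Y) ∧ (∃ y ∈ (M0 F).map ι, y ∉ A) ∧
      (∀ n ∈ Cen Y, n ∈ Nor ((M0 F).map ι) → n ∈ Nor A) ∧ ∀ a ∈ A, a ∉ Y → ∀ n ∈ Cen Y,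
      n ∈ Nor ((M0 F).map ι) → n * a * n⁻¹ * a⁻¹ ∈ Y → n ∈ (M0 F).map ι by
    obtain ⟨A, a1, a2, a3, a4, a5, a6⟩ := h
    refine YN (T4.main ⟨a1, a2, MH, le_rfl, fun a ha b hb => s.commM ha hb,
      fun a ha => s.cubeM ha ▸ one_mem _, fun n h1 h2 k e => ?_, fun a ha aY g h1 h2 => ?_,
      a3, a4, a5, a6⟩ |>.trans s.nm)
    · have e1 : n ^ 3 ^ (k + 1) = 1 := by rw [pow_succ, pow_mul, s.cubeM (YM e)]
      exact c3 n (s.three (s.nm h2) e1) h1 _ e1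
    · have k1 : Cen (Y ⊔ zpowers a) ≤ Nor ι.range := by
        by_contra k1
        exact aY (mx _ ⟨sup_le YM (zpowers_le.2 ha), fun e => Y0 (le_bot_iff.1 (e ▸ le_sup_left)),
          k1⟩ le_sup_left ▸ mem_sup_right (mem_zpowers a))
      refine HN g h1 (inv_mem_iff.1 (s.K1 fun b hb => s.three' (k1 (cen_iff_le.2 (sup_le
        (cen_iff_le.1 (mul_mem (mul_mem (inv_mem h1) (MH hb)) (inv_mem (inv_mem h1))))
        (zpowers_le.2 (c1.2 ?_))))) (cube_conj (s.cubeM hb) _)))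
      calc _ = g⁻¹ * (g * a * g⁻¹ * b) * g := by group
        _ = _ := by rw [s.commM h2 hb]; group
  have ZM : (Z0 F).map ι ≤ (M0 F).map ι := map_mono Z0_le_M0
  have ZQ : (Z0 F).map ι ≤ (Q0 F).map ι := map_mono Z0_le_Q0
  have sp : ∀ {B : Subgroup G} {a : G}, B ≤ (M0 F).map ι → a ∈ Y ⊔ B →
      ∃ y ∈ Y, ∃ b ∈ B, y * b = a := fun hB => (H5.mem_sup_left_iff (cnor (hB.trans MH))).1
  have cj : ∀ n ∈ Cen Y, ∀ y ∈ Y, ∀ b ∈ (M0 F).map ι,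
      n * (y * b) * n⁻¹ * (y * b)⁻¹ = n * b * n⁻¹ * b⁻¹ := fun n hn y hy b hb => by
    rw [← s.commM hb (YM hy), ← mul_assoc n, mul_assoc (n * b), ← GW.cen.1 (inv_mem hn) y hy]
    group
  have z1 : ι (zz 1) ∉ Y := fun e => s.z1 (YZ _ e (s.mm.2 (zz_mem 1)))
  have w1 := s.mm.2 (m0_mem ((0, 1, 0) : H9.V3 F))
  have w2 : ι (m0 (0, 1, 0)) ∈ (Q0 F).map ι := s.mm.2 (m0_mem_Q.2 rfl)
  have w3 : ι (m0 (0, 1, 0)) ∉ (Z0 F).map ι := fun e => one_ne_zero (m0_mem_Z.1 (s.mm.1 e)).2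
  by_cases hA : ∃ t ∈ ι.range, t ∈ Cen Y ∧ t ∉ (M0 F).map ι
  · obtain ⟨t, tC, tH, tM⟩ := hA
    have YQ : ∀ y ∈ Y, y ∈ (Q0 F).map ι → y = 1 := fun y hy h => by
      by_contra e
      exact ((s.cenM (YM hy) (fun e1 => e (YZ y hy e1)) tC (GW.cen.1 tH y hy)).resolve_left tM).1 h
    have t2 : ∀ g ∈ ι.range, g ∈ Cen Y → g ∉ (M0 F).map ι → ∀ g' ∈ ι.range, g' ∈ Cen Y →
        g' ∉ (M0 F).map ι → g * g' ∈ (M0 F).map ι := fun g h1 h2 h3 g' h4 h5 =>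
      ((s.cenM (YM hy) yZ h1 (GW.cen.1 h2 y hy)).resolve_left h3).2.2 g' h4 (GW.cen.1 h5 y hy)
    have tN := HN t tH (le_normalizer tC)
    let B : Subgroup G :=
      { carrier := {b | b ∈ (M0 F).map ι ∧ t * b * t⁻¹ = b⁻¹}
        one_mem' := ⟨one_mem _, by simp⟩
        mul_mem' := fun {a b} ha hb => ⟨mul_mem ha.1 hb.1, by
          rw [← conj_mul, ha.2, hb.2, s.commM ha.1 hb.1, mul_inv_rev]⟩
        inv_mem' := fun {a} ha => ⟨inv_mem ha.1, by rw [← conj_inv, ha.2]⟩ }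
    have BM : B ≤ (M0 F).map ι := fun b hb => hb.1
    have BZ : ∀ b ∈ B, b ∈ (Z0 F).map ι → b = 1 := by
      rintro _ hb ⟨_, ⟨z, rfl⟩, rfl⟩
      have := hb.2
      rw [s.cz tC, mul_inv_cancel_right, ← map_inv, ← zz_neg] at this
      rw [eq_zero_of_neg s.h3 (zz_inj (s.inj this)), zz_zero, map_one]
    have BQ : B ≤ (Q0 F).map ι := by
      rintro _ ⟨⟨b, hb, rfl⟩, e⟩
      obtain ⟨v, rfl⟩ := mem_M0.1 hb
      obtain ⟨t, rfl⟩ := tC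
      obtain ⟨y, hy', rfl⟩ := YM hy
      obtain ⟨-, h1, h2⟩ := (cen_M s.h3 hy' (s.mm.not.1 yZ)
        (s.cm.1 (GW.cen.1 tH _ hy))).resolve_left (s.mm.not.1 tM)
      rw [← map_inv, ← map_mul, ← map_mul, ← map_inv, conj_m0 h1, ← m0_neg] at e
      have := congrArg (·.1) (m0_injective (s.inj e))
      exact s.mm.2 (m0_mem_Q.2 (eq_zero_of_neg s.h3 (by simpa [H9.bo, h2] using this)))
    refine ⟨Y ⊔ B, le_sup_left, sup_le YM BM, ?_, ⟨_, s.zM 1, fun h => ?_⟩, fun n h1 h2 =>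
      msup (mcnor h1) (mnor fun b hb => ⟨cmem h2 hb.1, ?_⟩), fun a ha aY n h1 h2 h3 => ?_⟩
    · generalize ι (m0 (0, 1, 0)) = w at w1 w2 w3
      have k1 := cmem tN (inv_mem w1)
      refine ⟨t * w⁻¹ * t⁻¹ * w, mem_sup_right ⟨mul_mem k1 w1, ?_⟩, fun h => tM ?_⟩
      · calc _ = t * t * w⁻¹ * (t * t)⁻¹ * (t * w * t⁻¹) := by group
          _ = _ := by rw [s.commM (t2 t tC tH tM t tC tH tM) (inv_mem w1)]; group
      · have := YQ _ h (mul_mem (s.nQ (le_normalizer tC) (inv_mem w2)) w2)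
        refine (s.cenM w1 w3 tC ?_).resolve_right fun e => e.1 w2
        calc _ = w * (t * w⁻¹ * t⁻¹ * w)⁻¹ * t := by group
          _ = _ := by rw [this]; group
    · obtain ⟨y, hy, b, hb, e⟩ := sp BM h
      rw [YQ y hy (mem_of_eq (mul_mem (ZQ (s.mm.2 (zz_mem 1))) (inv_mem (BQ hb)))
        (by rw [← e]; group)), one_mul] at e
      exact s.z1 (e ▸ BZ b hb (e ▸ s.mm.2 (zz_mem 1)))
    · have k1 := t2 _ (inv_mem tC) (inv_mem tH) (inv_mem_iff.not.2 tM) _ (cmem' (s.nm h2) tC)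
        (mul_mem (mul_mem (inv_mem h1) tH) h1) fun e => tM (mem_of_eq (cmem h2 e) (by group))
      calc _ = n * (t * (t⁻¹ * (n⁻¹ * t * n) * b * (t⁻¹ * (n⁻¹ * t * n))⁻¹) * t⁻¹) * n⁻¹ := by group
        _ = _ := by rw [s.commM k1 hb.1, mul_inv_cancel_right, hb.2]; group
    · obtain ⟨y', hy', b, hb, rfl⟩ := sp BM ha
      rw [cj n h1 y' hy' b hb.1] at h3
      have k1 := YQ _ h3 (mul_mem (s.nQ (s.nm h2) (BQ hb)) (inv_mem (BQ hb)))
      rw [mul_inv_eq_one, mul_inv_eq_iff_eq_mul] at k1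
      have k2 : b ∉ (Z0 F).map ι := fun e => aY (by rwa [BZ b hb e, mul_one])
      exact (s.cenM hb.1 k2 (s.fix (s.nm h2) (YM hy) (fun e => y1 (YQ y hy e)) hb.1 (BQ hb) k2
        (GW.cen.1 h1 y hy) k1) k1).resolve_right fun e => e.1 (BQ hb)
  push Not at hA
  by_cases hB : (M0 F).map ι ≤ Y ⊔ (Z0 F).map ι
  · have k0 : ∀ n ∈ Cen Y, n ∈ Nor ((M0 F).map ι) → n ∈ (M0 F).map ι := fun n h1 h2 => by
      obtain ⟨a, ha, b, hb, e⟩ := sp ZM (hB w1)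
      obtain ⟨a', ha', b', hb', e'⟩ := sp ZM (hB (s.mm.2 (m0_mem ((1, 0, 0) : H9.V3 F))))
      refine hA n (s.fix (s.nm h2) (YM ha') (fun h => one_ne_zero (α := F) (m0_mem_Q.1 (s.mm.1
        (e' ▸ mul_mem h (ZQ hb'))))) (YM ha) (mem_of_eq (mul_mem w2 (inv_mem (ZQ hb)))
        (by rw [← e]; group)) (fun h => w3 (e ▸ mul_mem h hb)) (GW.cen.1 h1 _ ha')
        (GW.cen.1 h1 _ ha)) h1
    have k1 : Y ⊔ zpowers (ι (zz 1)) ≤ (M0 F).map ι := sup_le YM (zpowers_le.2 (s.zM 1))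
    obtain ⟨w, hw⟩ := s.big 1
    refine ⟨Y ⊔ zpowers (ι (zz 1)), le_sup_left, k1, ⟨_, mem_sup_right (mem_zpowers _), z1⟩,
      ⟨_, s.zM w, fun h => hw ?_⟩, fun n h1 h2 => mcnor (GW.cen.2 fun a ha =>
        s.commM (k0 n h1 h2) (k1 ha)), fun a _ _ n h1 h2 _ => k0 n h1 h2⟩
    obtain ⟨y, hy, b, hb, e⟩ := sp (zpowers_le.2 (s.zM 1)) h
    rw [YZ y hy (mem_of_eq (mul_mem (s.mm.2 (zz_mem w)) (inv_mem
      (zpowers_le.2 (s.mm.2 (zz_mem 1)) hb))) (by rw [← e]; group)), one_mul] at e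
    exact e ▸ hb
  · refine ⟨Y ⊔ (Z0 F).map ι, le_sup_left, sup_le YM ZM, ⟨_, mem_sup_right (s.mm.2 (zz_mem 1)), z1⟩,
      SetLike.not_le_iff_exists.1 hB, fun n h1 h2 => msup (mcnor h1) (s.norZ (s.nm h2)),
      fun a ha aY n h1 h2 h3 => ?_⟩
    obtain ⟨y', hy', b, hb, rfl⟩ := sp ZM ha
    rw [cj n h1 y' hy' b (ZM hb)] at h3
    have k1 := YZ _ h3 (mul_mem (cmem (s.norZ (s.nm h2)) hb) (inv_mem hb))
    rw [mul_inv_eq_one, mul_inv_eq_iff_eq_mul] at k1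
    obtain ⟨_, ⟨z, rfl⟩, rfl⟩ := hb
    exact hA n (s.of_cz (fun e => aY (by rwa [e, zz_zero, map_one, mul_one])) k1) h1

theorem step1' (hg : g ∈ ι.range) (h : g ^ 3 = 1) (g1 : g ≠ 1) : Cen1 g ≤ Nor ι.range :=
  fun x hx => by
  obtain ⟨c, hc, e⟩ := s.conj3 hg h
  have := s.step1 e (by simpa using g1) (c1.2 (show c * x * c⁻¹ * _ = _ by
    rw [conj_mul, c1.1 hx, conj_mul]))
  exact mem_of_eq (mul_mem (mul_mem (inv_mem (le_normalizer hc)) this) (le_normalizer hc))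
    (by group)

/-- the quaternion group -/
def V (ι : HC F →* G) : Subgroup G := zpowers (ι ii) ⊔ zpowers (ι jj)

theorem tV : ι tt ∈ V ι := by
  rw [← ii_sq, map_mul]
  exact mul_mem (mem_sup_left (mem_zpowers _)) (mem_sup_left (mem_zpowers _))

theorem VC : V ι ≤ ι.range := sup_le (zpowers_le.2 ⟨_, rfl⟩) (zpowers_le.2 ⟨_, rfl⟩)

theorem t2 : ι tt * ι tt = 1 := by rw [← map_mul, tt_sq, map_one]

theorem norV {x : G} (h1 : x * ι ii * x⁻¹ ∈ V ι) (h2 : x * ι jj * x⁻¹ ∈ V ι) : x ∈ Nor (V ι) :=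
  mnor fun k hk => (show V ι ≤ (V ι).comap (MulAut.conj x).toMonoidHom from
    sup_le (zpowers_le.2 h1) (zpowers_le.2 h2)) hk

theorem step2 : Nor (V ι) ≤ Nor ι.range := by
  have iV : ι ii ∈ V ι := mem_sup_left (mem_zpowers _)
  have jV : ι jj ∈ V ι := mem_sup_right (mem_zpowers _)
  have uN : ι uu ∈ Nor (Cen (V ι)) := mcen (s.norV
    (by rw [← map_inv, ← map_mul, ← map_mul]; exact jV)
    (by rw [← map_inv, ← map_mul, ← map_mul, uu_jj s.h3, map_mul]; exact mul_mem iV jV))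
  have zV : ∀ z, ι (zz z) ∈ Cen (V ι) := fun z => GW.cen.2 fun x hx => (s.cz (s.VC hx) z).symm
  have uM : ι uu ∈ (M0 F).map ι := s.mm.2 (m0_mem _)
  have cV : ∀ g ∈ ι.range ⊓ Cen (V ι), ∃ z, ∃ e ∈ zpowers (ι tt), g = ι (zz z) * e := by
    rintro _ ⟨⟨g, rfl⟩, hg⟩
    rcases cen_V s.h3 (s.cm.1 (GW.cen.1 hg _ iV)) (s.cm.1 (GW.cen.1 hg _ jV)) with ⟨z, e⟩ | ⟨z, e⟩
    · exact ⟨z, 1, one_mem _, by rw [e, mul_one]⟩
    · exact ⟨z, _, mem_zpowers _, by rw [e, map_mul, mul_assoc, s.t2, mul_one]⟩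
  have HT : Cen (V ι) ⊔ zpowers (ι uu) ≤ Cen (zpowers (ι tt)) := by
    rw [cen_zp]
    exact sup_le (fun g hg => c1.2 (GW.cen.1 hg _ s.tV)) (zpowers_le.2 (c1.2 (s.cm.2 tt_uu.symm)))
  have cH : ∀ g ∈ ι.range ⊓ (Cen (V ι) ⊔ zpowers (ι uu)),
      ∃ a ∈ (M0 F).map ι, a ∈ Cen (V ι) ⊔ zpowers (ι uu) ∧ ∃ e ∈ zpowers (ι tt), g = a * e := by
    rintro g ⟨h1, h2⟩
    obtain ⟨c, hc, k, rfl⟩ := (H7.mem_sup_zpowers uN).1 h2
    obtain ⟨z, e, he, rfl⟩ := cV c ⟨mem_of_eq (mul_mem h1 (inv_mem (zpow_mem (map_le_range _ _ uM) k)))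
      (by group), hc⟩
    have := mem_sup_right (S := Cen (V ι)) (zpow_mem_zpowers (ι uu) k)
    exact ⟨_, mul_mem (s.zM z) (zpow_mem uM k), mul_mem (mem_sup_left (zV z)) this, e, he, by
      rw [mul_assoc, mul_assoc, GW.cen.1 (HT this) e he]⟩
  have e2 : ∀ e ∈ zpowers (ι tt), e * e = 1 := by
    rintro _ ⟨k, rfl⟩
    simp only []
    rw [← (Commute.refl _).mul_zpow, s.t2, one_zpow]
  have TZ : ∀ e ∈ zpowers (ι tt), e ^ 3 = 1 → e = 1 := fun e he h => by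
    rwa [pow_three', e2 e he, one_mul] at h
  have tA : zpowers (ι tt) ≤ ι.range ⊓ Cen (V ι) := zpowers_le.2 ⟨⟨_, rfl⟩, cen_iff_le.2
    (sup_le (zpowers_le.2 (c1.2 (s.cm.2 tt_ii.symm))) (zpowers_le.2 (c1.2 (s.cm.2 tt_jj.symm))))⟩
  have cb : ∀ g ∈ ι.range ⊓ (Cen (V ι) ⊔ zpowers (ι uu)), g ^ 3 ∈ zpowers (ι tt) := fun g hg => by
    obtain ⟨a, ha, aH, e, he, rfl⟩ := cH g hg
    rw [Commute.mul_pow (GW.cen.1 (HT aH) e he), s.cubeM ha, one_mul]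
    exact pow_mem he 3
  have NN : Nor (ι.range ⊓ (Cen (V ι) ⊔ zpowers (ι uu))) ≤ Nor ι.range := fun n hn =>
    s.K3 one_ne_zero (le_normalizer (cmem hn ⟨⟨_, rfl⟩, mem_sup_left (zV 1)⟩).1)
  have T : T4 (Cen (V ι) ⊔ zpowers (ι uu)) (zpowers (ι tt))
      (ι.range ⊓ (Cen (V ι) ⊔ zpowers (ι uu))) (ι.range ⊓ Cen (V ι)) :=
    { YA := tA
      le := inf_le_inf_left _ le_sup_left
      MH := inf_le_right
      cY := HT
      comm := fun a ha b hb => by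
        obtain ⟨a', h1, h2, e, he, rfl⟩ := cH a ha
        have k1 := GW.cen.1 (HT hb.2) e he
        obtain ⟨b', h3, h4, e', he', rfl⟩ := cH b hb
        rw [mul_assoc a', ← k1, ← mul_assoc, ← mul_assoc a', s.commM h1 h3, mul_assoc b',
          GW.cen.1 (HT h2) e' he']
        group
      cube := cb
      nor3 := fun n h1 h2 k e => by
        have k1 : n ^ 2 ∈ ι.range := s.three (pow_mem (NN h2) 2) (k := k) (by
          rw [← pow_mul, mul_comm, pow_mul, sq, e2 _ e])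
        obtain ⟨r, hr⟩ : Odd (3 ^ k) := Odd.pow (by decide)
        refine ⟨mem_of_eq (mul_mem (inv_mem (pow_mem k1 r)) (tA e).1) ?_, h1⟩
        rw [hr, pow_succ n (2 * r), pow_mul]; group
      ti := fun a ha aY g h1 h2 => by
        have k1 := s.step1' (mul_mem ha.1 ha.1) (by
          rw [(Commute.refl a).mul_pow, e2 _ (cb a ha)]) fun e => aY (by
            have := cb a ha
            rwa [pow_three', e, one_mul] at this)
        refine minf (inv_mem_iff.1 (s.K3 one_ne_zero (k1 (c1.2 ?_)))) (le_normalizer h1)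
        calc _ = g⁻¹ * (ι (zz 1) * (g * a * g⁻¹ * (g * a * g⁻¹))) * g := by group
          _ = _ := by rw [← s.cz (mul_mem h2.1 h2.1)]; group
      ne := ⟨_, ⟨⟨_, rfl⟩, zV 1⟩, fun e => s.z1 (TZ _ e (s.cubeM (s.zM 1)))⟩
      ne' := ⟨ι uu, ⟨⟨_, rfl⟩, mem_sup_right (mem_zpowers _)⟩, fun e => by
        have := congrArg H9.HC.a (s.cm.1 (GW.cen.1 e.2 _ iV))
        simp [uu, ii, m0] at this⟩
      nor := fun n h1 h2 => minf (NN h2) (sup_le le_normalizer (zpowers_le.2 uN) h1)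
      cen := fun a ha aY n h1 h2 h3 => by
        obtain ⟨z, e, he, rfl⟩ := cV a ha
        obtain ⟨z', e'⟩ := s.nZ (NN h2) z
        have k1 : n * (ι (zz z) * e) * n⁻¹ * (ι (zz z) * e)⁻¹ = ι (zz z') * (ι (zz z))⁻¹ := by
          rw [← e', ← mul_assoc n, mul_assoc (n * _), ← GW.cen.1 (inv_mem (HT h1)) e he]; group
        rw [k1] at h3
        have k2 := TZ _ h3 (s.cubeM (mul_mem (s.zM z') (inv_mem (s.zM z))))
        rw [← e', mul_inv_eq_one, mul_inv_eq_iff_eq_mul] at k2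
        exact ⟨s.of_cz (fun e => aY (by rwa [e, zz_zero, map_one, one_mul])) k2, h1⟩ }
  exact fun g hg => s.K3 one_ne_zero (NN (T.main (mem_sup_left (cmem (mcen hg) (zV 1)))))

theorem sylN {T : Subgroup G} (hT : IsPGroup 2 T) (Tt : T ≤ Cen1 (ι tt)) (VT : V ι ≤ T) :
    T ≤ Nor ι.range := by
  have iV : ι ii ∈ V ι := mem_sup_left (mem_zpowers _)
  have jV : ι jj ∈ V ι := mem_sup_right (mem_zpowers _)
  have TC : T ⊓ ι.range = V ι := by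
    refine (eq_of_le_of_card_ge (le_inf VT s.VC) ?_).symm
    obtain ⟨a, ha⟩ := (hT.to_le (inf_le_left : T ⊓ ι.range ≤ T)).exists_card_eq
    obtain ⟨b, hb⟩ := (hT.to_le VT).exists_card_eq
    have h1 : a ≤ 3 := by
      by_contra! h
      refine not_dvd s.odd s.card ((pow_dvd_pow 2 h).trans (ha ▸ ?_))
      rw [Nat.card_congr (MonoidHom.ofInjective s.inj).toEquiv]
      exact card_dvd_of_le inf_le_right
    have h2 : orderOf (ι ii) = 2 ^ (1 + 1) := orderOf_eq_prime_pow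
      (by rw [pow_one, sq, ← map_mul, ii_sq]; exact s.ne1 (tt_ne s.h3))
      (by rw [pow_succ 2 1, pow_mul, pow_one, sq, sq, ← map_mul, ii_sq, s.t2])
    have h3 : Nat.card (zpowers (ι ii)) < Nat.card (V ι) := H5.card_lt_of_lt
      (lt_of_le_of_ne le_sup_left fun e => jj_nmem s.h3 (s.mm.1 (by
        rw [MonoidHom.map_zpowers, e]; exact jV)))
    rw [Nat.card_zpowers, h2, hb, Nat.pow_lt_pow_iff_right (by norm_num)] at h3
    rw [ha, hb]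
    exact Nat.pow_le_pow_right (by norm_num) (by omega)
  have k1 : ∀ x ∈ T ⊓ Nor ι.range, x * x = ι tt → x ∈ V ι := fun x hx e => by
    by_contra h
    have xC : x ∉ ι.range := fun h1 => h (TC ▸ ⟨hx.1, h1⟩)
    obtain ⟨φ, hφ⟩ := s.aut hx.2
    refine aut_four s.h3 φ s.odd s.card (fun g => s.inj ?_) (s.inj ?_) fun z => s.inj ?_
    · rw [hφ, hφ, map_mul, map_mul, map_inv, ← e]; group
    · rw [hφ, c1'.1 (Tt hx.1)]
    · rw [hφ, s.inv hx.2 xC ⟨_, e.symm⟩, map_inv]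
  by_contra h
  obtain ⟨x, h1, h2, h3, -⟩ := H7.exists_mem_normalizer_of_lt hT
    (lt_of_le_of_ne (inf_le_left : T ⊓ Nor ι.range ≤ T) fun e => h (e ▸ inf_le_right))
  have k2 : ∀ y ∈ V ι, y * y = ι tt → x * y * x⁻¹ ∈ V ι := fun y hy e =>
    k1 _ (cmem h3 ⟨VT hy, le_normalizer (s.VC hy)⟩) (by rw [conj_mul, e, c1'.1 (Tt h1)])
  exact h2 ⟨h1, s.step2 (s.norV (k2 _ iV (by rw [← map_mul, ii_sq]))
    (k2 _ jV (by rw [← map_mul, jj_sq s.h3])))⟩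

theorem step3 {x : G} (xN : x ∈ Nor ι.range) (xt : x ∈ Cen1 (ι tt)) (e : g * ι tt * g⁻¹ = x) :
    x = ι tt := by
  have x2 : x * x = 1 := by rw [← e, conj_mul, s.t2]; group
  by_cases xC : x ∈ ι.range
  · obtain ⟨a, rfl⟩ := xC
    rw [eq_tt s.h3 (s.cm.1 (c1.1 xt)) (s.inj (by rw [map_mul, x2, map_one])) fun h =>
      s.ne1 (tt_ne s.h3) (by simpa [h] using e)]
  obtain ⟨φ, hφ⟩ := s.aut xN
  obtain ⟨a, ha, a1, ae⟩ := aut_invol s.h3 φ (fun a => s.inj (by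
    rw [hφ, hφ]
    calc _ = x * x * ι a * (x * x)⁻¹ := by group
      _ = _ := by rw [x2]; group)) fun z => s.inj (by
    rw [hφ, s.inv xN xC (x2 ▸ one_mem _), map_inv])
  have a3 : ι a ^ 3 = 1 := by rw [← map_pow, Q0_cube s.h3 ha, map_one]
  obtain ⟨R, hR, aR⟩ := H5.exists_isSylowOf_ge (pg_zp (p := 3) (k := 1) (by rwa [pow_one]))
    (zpowers_le.2 (c1s.1 (c1'.2 (by rw [← hφ, ae]) : x ∈ Cen1 (ι a))))
  obtain ⟨k, hk, h1⟩ := hR.exists_conj_le (Q := zpowers (g * ι (zz 1) * g⁻¹))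
    (pg_zp (k := 1) (by rw [pow_one]; exact cube_conj (s.cubeM (s.zM 1)) g))
    (zpowers_le.2 (c1.2 (by rw [← e, conj_mul, conj_mul, s.cz ⟨_, rfl⟩])))
  have h2 : k * g * ι (zz 1) * (k * g)⁻¹ ∈ R :=
    mem_of_eq (h1 (mem_map_of_mem _ (mem_zpowers _))) (by simp [mul_assoc])
  obtain ⟨c, hc, c1', c3, c4, -⟩ := U6.exists_fixed hR.2 hR.2 le_normalizer
    fun e => s.ne1 a1 (mem_bot.1 (e ▸ aR (mem_zpowers _)))
  have h3 := s.step1' (s.three' (s.step1' ⟨_, rfl⟩ a3 (s.ne1 a1)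
    (c1.2 (GW.cen.1 c4 _ (aR (mem_zpowers _))))) c3) c3 c1' (cen_iff_le.1 c4 h2)
  obtain ⟨z, hz⟩ := s.nZ (s.K3 one_ne_zero h3) 1
  refine absurd (s.of_cz (z := z) (fun h => s.z1 ?_) (c1.1 (hR.1 (hz ▸ h2))).symm) xC
  rwa [h, zz_zero, map_one, conj_eq_one_iff] at hz

theorem normal_p {p : ℕ} (hp : p.Prime) {E : Subgroup G} (hE : IsPGroup p E) (E0 : E ≠ ⊥)
    (hn : ⊤ ≤ Nor E) : ⊤ ≤ Nor ι.range := by
  haveI := Fact.mk hp
  have Q3 : IsPGroup 3 ((Q0 F).map ι) := (pg_of_cube fun a => Q0_cube s.h3).map ι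
  have ZQ : (Z0 F).map ι ≤ (Q0 F).map ι := map_mono Z0_le_Q0
  by_cases h3 : p = 3
  · subst h3
    obtain ⟨e, h1, h2, -, h3, h4⟩ := U6.exists_fixed hE Q3 (le_top.trans hn) E0
    obtain ⟨z, rfl⟩ := s.inZ (s.of_cz one_ne_zero (GW.cen.1 h4 _ (ZQ (s.mm.2 (zz_mem 1)))))
      (GW.cen.1 h4)
    have hz : z ≠ 0 := fun e => h2 (by rw [e, zz_zero, map_one])
    exact fun g hg => s.K3 hz (le_normalizer (s.of_cz hz
      (GW.cen.1 h3 _ (cmem (hn hg) h1)).symm))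
  have ZM : (Z0 F).map ι ≤ (M0 F).map ι := map_mono Z0_le_M0
  have EC : E ≤ ι.range := H5.le_of_centralizer_singleton (A := (Z0 F).map ι)
    ⟨⟨fun a b => Subtype.ext (s.commM (ZM a.2) (ZM b.2))⟩⟩ (fun h => by
      obtain ⟨⟨_, _, ⟨z, rfl⟩, rfl⟩, hz⟩ := h.exists_generator
      obtain ⟨w, hw⟩ := s.big z
      obtain ⟨k, hk⟩ := hz ⟨_, s.mm.2 (zz_mem w)⟩
      exact hw ⟨k, congrArg Subtype.val hk⟩) (le_top.trans hn)
    (IsPGroup.coprime_card_of_ne 3 p (Ne.symm h3) _ _ (Q3.to_le ZQ) hE) (by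
      rintro _ ⟨_, ⟨z, rfl⟩, rfl⟩ h
      rw [← s.cen z fun e => h (by rw [e, zz_zero, map_one])]
      exact inf_le_right)
  have EQ : ∀ {x}, x ∈ E → x ∈ (Q0 F).map ι → x = 1 := disjoint_def.1 (IsPGroup.disjoint_of_ne p 3 h3 _ _ hE Q3)
  obtain ⟨e, he, e1⟩ := E.bot_or_exists_ne_one.resolve_left E0
  obtain ⟨z, rfl⟩ := s.inZ (EC he) fun w hw => by
    have := EQ (mem_of_eq (mul_mem he (cmem (hn (mem_top w)) (inv_mem he))) (by group))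
      (mul_mem (s.nQ (le_normalizer (EC he)) hw) (inv_mem hw))
    rwa [mul_inv_eq_one, mul_inv_eq_iff_eq_mul] at this
  exact absurd (EQ he (ZQ (s.mm.2 (zz_mem z)))) e1

theorem main : ι.range.Normal := by
  refine normalizer_eq_top_iff.1 (top_le_iff.1 ?_)
  by_cases h : Oo (⊤ : Subgroup G) = ⊥
  swap
  · obtain ⟨p, hp, h1⟩ := BS.exists_pCoreIn_ne_bot' (odd_solv (odd_Oo ⊤)) h
    exact s.normal_p hp (isPGroup_pCoreIn _ _) h1 ((lOo ⊤).trans (nOp _ _))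
  have t1 := s.ne1 (tt_ne s.h3)
  have V2 : IsPGroup 2 (V ι) := by
    have k : ∀ {a : HC F}, a * a = tt → IsPGroup 2 (zpowers (ι a)) := fun e => pg_zp (k := 2) (by
      rw [sq, pow_mul, sq, sq, ← map_mul, e, s.t2])
    refine (k ii_sq).to_sup_of_normal_left' (k (jj_sq s.h3)) (zpowers_le.2 (mnor ?_))
    rintro _ ⟨n, rfl⟩
    simp only []
    rw [← conj_zpow, ← map_inv, ← map_mul, ← map_mul, jj_ii s.h3, map_inv]
    exact zpow_mem (inv_mem (mem_zpowers _)) n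
  obtain ⟨T, hT, VT⟩ := H5.exists_isSylowOf_ge V2 (K := ⊤ ⊓ Cen1 (ι tt)) (le_inf le_top
    (sup_le (zpowers_le.2 (c1.2 (s.cm.2 tt_ii.symm))) (zpowers_le.2 (c1.2 (s.cm.2 tt_jj.symm)))))
  have Tt := hT.1.trans inf_le_right
  have := MT.zstar_in (orderOf_eq_prime (by rw [sq, s.t2]) t1) (mem_top _) hT
    fun x hx ⟨g, _, e⟩ => s.step3 (s.sylN hT.2 Tt VT hx) (Tt hx) e
  rw [h, sup_bot_eq] at this
  exact s.normal_p Nat.prime_two (pg_zp (k := 1) (by rw [pow_one, sq, s.t2]))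
    (zpowers_ne_bot.2 t1) (nzp (this.trans inf_le_right))

end St

end HY
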