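import Cfsg.Agent.HY.C

/-! Self-centralizing elementary abelian 3-subgroups with two classes; `Z*` modulo a subgroup. -/

set_option autoImplicit false
set_option linter.unusedSectionVars false
set_option linter.unusedVariables false

namespace HY

open Cfsg FT H4 GW
open Subgroup hiding one
open H5 (IsSylowOf mem_of_eq)
open scoped ComplexConjugate Classical

variable {G : Type*} [Group G]

/-- the hypotheses -/
structure L3 (Z L : Subgroup G) (x : G) : Prop where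
  comm : ∀ a ∈ Z, ∀ b ∈ Z, a * b = b * a
  cube : ∀ a ∈ Z, a ^ 3 = 1
  cen : ∀ a ∈ Z, a ≠ 1 → ∀ g, g * a = a * g → g ∈ Z
  mem : x ∈ Z
  cls : ∀ z ∈ Z, z ≠ 1 → IsConj x z ∨ IsConj x z⁻¹
  nc : ¬ IsConj x x⁻¹
  big : 4 < Nat.card Z
  nor : Nor Z ≤ L
  ex : ∃ l ∈ L, l ∉ Nor Z

namespace L3

variable [Fintype G] {Z L : Subgroup G} {x : G} (h : L3 Z L x)
include h

theorem x1 : x ≠ 1 := fun e => h.nc (by rw [e, inv_one])

theorem ti {a g : G} (ha : a ∈ Z) (a1 : a ≠ 1) (e : g * a * g⁻¹ ∈ Z) : g ∈ Nor Z :=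
  inv_mem_iff.1 (mnor fun z hz => h.cen a ha a1 _ (by
    calc _ = g⁻¹ * (z * (g * a * g⁻¹)) * g := by group
      _ = _ := by rw [h.comm z hz _ e]; group))

theorem nor3 {n : G} (hn : n ∈ Nor Z) {k : ℕ} (e : n ^ 3 ^ k = 1) : n ∈ Z := by
  obtain ⟨z, h1, h2, -, -, h3⟩ := U6.exists_fixed (pg_of_cube h.cube) (pg_zp e) (zpowers_le.2 hn)
    fun e => h.x1 (mem_bot.1 (e ▸ h.mem))
  exact h.cen z h1 h2 n (GW.cen.1 h3 n (mem_zpowers n)).symm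

theorem conj_in {K : Subgroup G} (hK : Z ≤ K) {e : G} (eK : e ∈ K) (he : e ^ 3 = 1) :
    ∃ g ∈ K, g * e * g⁻¹ ∈ Z := by
  have hs : IsSylowOf 3 Z K := IsSylowOf.of_normalizer (H5.isSylowOf_of_maximal
    (le_inf hK le_normalizer) (pg_of_cube h.cube) fun R hR _ h2 r hr => by
      obtain ⟨k, hk⟩ := hR ⟨r, hr⟩
      exact h.nor3 (h2 hr).2 (congrArg Subtype.val hk))
  obtain ⟨k, h1, hk⟩ := hs.exists_conj_le (pg_zp (k := 1) (by rwa [pow_one])) (zpowers_le.2 eK)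
  exact ⟨k, h1, hk (mem_map_of_mem _ (mem_zpowers e))⟩

theorem pair {g k : G} (hw : g⁻¹ * x * g * (k⁻¹ * x⁻¹ * k) = x) : g ∈ Nor Z := by
  have x3 := h.cube x h.mem
  have ha : (g⁻¹ * x * g) ^ 3 = 1 := by simpa using cube_conj x3 g⁻¹
  have hb : (k⁻¹ * x⁻¹ * k) ^ 3 = 1 := by simpa using cube_conj (h.cube _ (inv_mem h.mem)) k⁻¹
  rcases tri ha hb (hw.symm ▸ x3) with h1 | ⟨e, e1, e3, ec, ee⟩
  · obtain ⟨c, hc⟩ := isConj_iff.1 h1
    refine absurd (isConj_iff.2 ⟨k * c⁻¹ * g⁻¹, ?_⟩) h.nc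
    calc _ = k * c⁻¹ * (g⁻¹ * x * g) * c * k⁻¹ := by group
      _ = _ := by rw [← hc]; group
  obtain ⟨u, -, hu⟩ := h.conj_in le_top (mem_top e) e3
  have u1 : u * e * u⁻¹ ≠ 1 := by simpa using e1
  have key : ∀ a : G, a ^ 3 = 1 → Commute e (a * e * a⁻¹) → u * a * u⁻¹ ∈ Z := fun a a3 ac => by
    have h1 : u * (a * e * a⁻¹) * u⁻¹ ∈ Z := h.cen _ hu u1 _ (by rw [conj_mul, conj_mul, ac.eq])
    exact h.nor3 (h.ti hu u1 (mem_of_eq h1 (by group))) (k := 1)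
      (by rw [pow_one]; exact cube_conj a3 u)
  have k1 := key _ ha ec
  have k3 : u ∈ Nor Z := h.ti h.mem h.x1 (mem_of_eq (mul_mem k1 (key _ hb (ee ▸ ec)))
    (by rw [conj_mul, hw]))
  exact inv_mem_iff.1 (h.ti h.mem h.x1 (mem_of_eq (cmem' k3 k1) (by group)))

omit h in
theorem bound {K K' : Subgroup G} (h1 : Z ≤ K') (h2 : K ≤ K') {g : G} (hg : g ∈ K')
    (e : ∀ z ∈ Z, g⁻¹ * z * g ∈ K → z = 1) : Nat.card Z * Nat.card K ≤ Nat.card K' := by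
  rw [← Nat.card_prod]
  refine Nat.card_le_card_of_injective (fun p : Z × K =>
    (⟨p.1 * g * p.2, mul_mem (mul_mem (h1 p.1.2) hg) (h2 p.2.2)⟩ : K')) fun p q e1 => ?_
  have e2 : p.1.1 * g * p.2 = q.1 * g * q.2 := congrArg Subtype.val e1
  have e3 := e _ (mul_mem (inv_mem q.1.2) p.1.2) (mem_of_eq (mul_mem q.2.2 (inv_mem p.2.2)) (by
    calc _ = g⁻¹ * q.1.1⁻¹ * (q.1 * g * q.2) * p.2.1⁻¹ := by group
      _ = _ := by rw [← e2]; group))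
  rw [inv_mul_eq_one] at e3
  rw [e3] at e2
  exact Prod.ext (Subtype.ext e3.symm) (Subtype.ext (mul_left_cancel e2))

theorem count : (Finset.univ.filter fun p : G × G =>
    ∃ u ∈ (⊤ : Subgroup G), u * x * u⁻¹ = p.1⁻¹ * x * p.1 * (p.2⁻¹ * x⁻¹ * p.2)).card * Nat.card Z ≤
    Nat.card G * (Nat.card Z * Nat.card (Nor Z)) := by
  have h1 : (Finset.univ.filter fun p : G × G =>
      p.1⁻¹ * x * p.1 * (p.2⁻¹ * x⁻¹ * p.2) = x).card ≤ Nat.card Z * Nat.card (Nor Z) := by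
    rw [← card_filter_mem (Nor Z)]
    refine Finset.card_le_mul_card_image_of_maps_to (f := Prod.fst)
      (fun p hp => by simpa using h.pair (Finset.mem_filter.1 hp).2) _ fun b _ => ?_
    rcases Finset.eq_empty_or_nonempty ((Finset.univ.filter fun p : G × G =>
      p.1⁻¹ * x * p.1 * (p.2⁻¹ * x⁻¹ * p.2) = x).filter fun p => p.1 = b) with e | ⟨p0, h0⟩
    · rw [e]; simp
    rw [← card_filter_mem Z]
    simp only [Finset.mem_filter, Finset.mem_univ, true_and] at h0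
    refine Finset.card_le_card_of_injOn (fun p => p.2 * p0.2⁻¹) (fun p hp => ?_) fun p hp q hq e => ?_
    · simp only [Finset.coe_filter, Finset.mem_filter, Finset.mem_univ, true_and,
        Set.mem_setOf_eq] at hp ⊢
      have e := hp.1.trans h0.1.symm
      rw [hp.2, h0.2, mul_right_inj] at e
      refine h.cen _ (inv_mem h.mem) (inv_ne_one.2 h.x1) _ ?_
      calc _ = p.2 * (p0.2⁻¹ * x⁻¹ * p0.2) * p0.2⁻¹ := by group
        _ = _ := by rw [← e]; group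
    · simp only [Finset.coe_filter, Finset.mem_filter, Set.mem_setOf_eq] at hp hq
      exact Prod.ext (hp.2.trans hq.2.symm) (mul_right_cancel e)
  refine le_trans ?_ (Nat.mul_le_mul_left _ h1)
  rw [← card_filter_mem Z, ← Finset.card_product, Nat.card_eq_fintype_card, ← Finset.card_univ,
    ← Finset.card_product]
  have : ∀ p : G × G, ∃ u, (∃ u ∈ (⊤ : Subgroup G),
      u * x * u⁻¹ = p.1⁻¹ * x * p.1 * (p.2⁻¹ * x⁻¹ * p.2)) →
      u * x * u⁻¹ = p.1⁻¹ * x * p.1 * (p.2⁻¹ * x⁻¹ * p.2) := fun p => by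
    by_cases e : ∃ u ∈ (⊤ : Subgroup G), u * x * u⁻¹ = p.1⁻¹ * x * p.1 * (p.2⁻¹ * x⁻¹ * p.2)
    · obtain ⟨u, -, e⟩ := e; exact ⟨u, fun _ => e⟩
    · exact ⟨1, fun e1 => absurd e1 e⟩
  choose u hu using this
  refine Finset.card_le_card_of_injOn
    (fun p => (u p.1 * p.2, (p.1.1 * (u p.1 * p.2), p.1.2 * (u p.1 * p.2)))) (fun p hp => ?_)
    fun p _ q _ e => ?_
  · simp only [Finset.coe_product, Finset.coe_filter, Finset.mem_univ, true_and, Set.mem_prod,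
      Set.mem_setOf_eq, Finset.coe_univ, Set.mem_univ] at hp ⊢
    calc _ = (u p.1 * p.2)⁻¹ * (p.1.1⁻¹ * x * p.1.1 * (p.1.2⁻¹ * x⁻¹ * p.1.2)) * (u p.1 * p.2) := by
          group
      _ = p.2⁻¹ * (x * p.2) := by rw [← hu _ hp.1]; group
      _ = _ := by rw [h.comm x h.mem _ hp.2]; group
  · simp only [Prod.mk.injEq] at e
    obtain ⟨e1, e2, e3⟩ := e
    rw [e1] at e2 e3
    have e4 : p.1 = q.1 := Prod.ext (mul_right_cancel e2) (mul_right_cancel e3)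
    rw [e4] at e1
    exact Prod.ext e4 (mul_left_cancel e1)

theorem sumZ {f : G → ℝ} (hf : ∀ a b, IsConj a b → f a = f b) (hf' : ∀ a, f a⁻¹ = f a) :
    ∑ z ∈ Finset.univ.filter (· ∈ Z), f z = f 1 + (Nat.card Z - 1) * f x := by
  rw [← Finset.add_sum_erase _ _ (a := 1) (by simp), Finset.sum_congr rfl (g := fun _ => f x),
    Finset.sum_const, Finset.card_erase_of_mem (by simp), card_filter_mem, nsmul_eq_mul,
    Nat.cast_pred Nat.card_pos]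
  intro z hz
  simp only [Finset.mem_erase, Finset.mem_filter, Finset.mem_univ, true_and] at hz
  rcases h.cls z hz.2 hz.1 with e | e
  · exact (hf _ _ e).symm
  · rw [hf _ _ e, hf']

theorem main : L = ⊤ := by
  by_contra hn
  obtain ⟨g, hg⟩ : ∃ g, g ∉ L := by
    by_contra! e; exact hn (eq_top_iff.2 fun g _ => e g)
  obtain ⟨l, hl, lN⟩ := h.ex
  have ZL := le_normalizer.trans h.nor
  have b1 := bound ZL h.nor hl fun z hz e => by
    by_contra z1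
    exact lN (inv_mem_iff.1 (h.ti hz z1 (mem_of_eq (h.nor3 e (k := 1) (by
      simpa using cube_conj (h.cube z hz) l⁻¹)) (by group))))
  have b2 := bound (K := L) le_top le_top (mem_top g) fun z hz e => by
    by_contra z1
    obtain ⟨k, hk, e1⟩ := h.conj_in ZL e (by simpa using cube_conj (h.cube z hz) g⁻¹)
    exact hg (mem_of_eq (mul_mem (inv_mem (h.nor (h.ti (g := k * g⁻¹) hz z1
      (mem_of_eq e1 (by group))))) hk) (by group))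
  rw [card_top] at b2
  have cZ : ⊤ ⊓ Cen1 x = Z := le_antisymm (fun n hn => h.cen x h.mem h.x1 n (c1.1 hn.2))
    (le_inf le_top fun z hz => c1.2 (h.comm z hz x h.mem))
  have ir : ∀ {χ}, χ ∈ irrs (⊤ : Subgroup G) → Irr ⊤ χ := mem_irrs.1
  have cf : ∀ {χ : G → ℂ}, Irr ⊤ χ → ∀ a b, IsConj a b → χ a = χ b := fun hχ a b e => by
    obtain ⟨c, rfl⟩ := isConj_iff.1 e
    exact (hχ.cf.cnj c (mem_top c) a).symm
  obtain ⟨r, hr⟩ : ∃ r : ℕ, Nat.card Z = r + 1 := ⟨_, (Nat.succ_pred_eq_of_pos Nat.card_pos).symm⟩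
  have q0 : (Nat.card Z : ℂ) ≠ 0 := card_ne_zero' Z
  have dd : ∀ χ ∈ irrs (⊤ : Subgroup G), 1 ≤ (χ 1).re ∧ χ 1 = (χ 1).re := fun χ hχ => by
    obtain ⟨d, d0, e⟩ := (ir hχ).apply_one
    rw [e]; exact ⟨by simpa using Nat.succ_le_of_lt d0, by simp⟩
  have p1 : ∀ χ ∈ irrs (⊤ : Subgroup G), 0 ≤ (χ 1).re + r * (χ x).re := fun χ hχ => by
    obtain ⟨n, e⟩ := ((ir hχ).chr.res (le_top : Z ≤ ⊤)).ip_nat (chr_one Z)
    rw [ip_res_left, ip, inv_mul_eq_iff_eq_mul₀ q0, Finset.sum_congr rfl (g := χ) fun z hz => by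
      rw [FT.one, res_of_mem _ (Finset.mem_filter.1 hz).2]; simp] at e
    have e1 := congrArg Complex.re e
    rw [Complex.re_sum, h.sumZ (fun a b e => by rw [cf (ir hχ) a b e]) (fun a => by
      rw [← (ir hχ).vchr.conj_eq, Complex.conj_re]), hr] at e1
    simp only [Nat.cast_add, Nat.cast_one, add_sub_cancel_right] at e1
    rw [e1, ← Nat.cast_add_one, ← Nat.cast_mul, Complex.natCast_re]
    positivity
  have p2 : ∀ χ ∈ irrs (⊤ : Subgroup G), χ x ≠ 0 → 1 ≤ ‖χ x‖ ^ 2 := fun χ hχ h0 => by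
    obtain ⟨n, e⟩ := ((ir hχ).vchr.res (le_top : Z ≤ ⊤)).nrm_nat
    obtain ⟨d, d0, ed⟩ := (ir hχ).apply_one
    rw [nrm, inv_mul_eq_iff_eq_mul₀ (by exact_mod_cast q0),
      Finset.sum_congr rfl (g := fun z => ‖χ z‖ ^ 2) fun z hz => by
        rw [res_of_mem _ (Finset.mem_filter.1 hz).2],
      h.sumZ (fun a b e => by rw [cf (ir hχ) a b e]) (fun a => by
        rw [← (ir hχ).vchr.conj_eq, Complex.norm_conj]), hr, ed] at e
    simp only [Nat.cast_add, Nat.cast_one, add_sub_cancel_right, Complex.norm_natCast] at e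
    obtain ⟨b, hb⟩ := H2.exists_int_of_mul (((ir hχ).vchr.isIntegral x).mul
      ((ir hχ).vchr.isIntegral x⁻¹)) (m := r) (a := (r + 1) * n - d ^ 2)
      (by have := h.big; omega) (by
        rw [← (ir hχ).vchr.conj_eq, Complex.mul_conj']
        have := congrArg (fun t : ℝ => (t : ℂ)) e
        push_cast at this ⊢
        linear_combination this)
    rw [← (ir hχ).vchr.conj_eq, Complex.mul_conj'] at hb
    have hb' : ‖χ x‖ ^ 2 = b := by exact_mod_cast hb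
    have : (0 : ℝ) < b := hb' ▸ pow_pos (norm_pos_iff.2 h0) 2
    rw [hb']
    exact_mod_cast (show 0 < b by exact_mod_cast this)
  have o1 : FT.one ⊤ ∈ irrs (⊤ : Subgroup G) := mem_irrs.2 (irr_one _)
  have o2 : ∀ a : G, FT.one ⊤ a = 1 := fun a => res_of_mem _ (mem_top a)
  have s1 := sum_norm_sq_irrs (mem_top x)
  rw [cZ] at s1
  obtain ⟨χ0, h0, h1⟩ : ∃ χ ∈ (irrs (⊤ : Subgroup G)).erase (FT.one ⊤), 0 < (χ x).re := by
    by_contra! e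
    have e' : ∀ χ ∈ (irrs (⊤ : Subgroup G)).erase (FT.one ⊤), 0 ≤ -(χ x).re := fun χ hχ =>
      neg_nonneg.2 (e χ hχ)
    have s2 := congrArg Complex.re (sum_mul_degree (L := ⊤) h.x1)
    rw [Complex.re_sum, ← Finset.add_sum_erase _ _ o1, o2, o2, Finset.sum_congr rfl
      (g := fun χ => -((χ 1).re * -(χ x).re)) fun χ hχ => by
        rw [(dd χ (Finset.mem_of_mem_erase hχ)).2]; simp [mul_comm], Finset.sum_neg_distrib] at s2
    simp only [mul_one, Complex.one_re, Complex.zero_re] at s2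
    have s3 := congrArg Complex.re (column_orth (mem_top x) (mem_top x⁻¹))
    rw [if_neg fun ⟨c, _, e⟩ => h.nc (isConj_iff.2 ⟨c, e⟩).symm, Complex.re_sum,
      Finset.sum_congr rfl (g := fun χ => 2 * (χ x).re ^ 2 - ‖χ x‖ ^ 2) fun χ hχ => by
        rw [(ir hχ).vchr.conj_eq, inv_inv, Complex.sq_norm, Complex.normSq_apply, Complex.mul_re]
        ring, Finset.sum_sub_distrib, s1, ← Finset.mul_sum, ← Finset.add_sum_erase _ _ o1, o2] at s3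
    have s4 : ∑ χ ∈ (irrs (⊤ : Subgroup G)).erase (FT.one ⊤), (χ x).re ^ 2 ≤
        ∑ χ ∈ (irrs (⊤ : Subgroup G)).erase (FT.one ⊤), (χ 1).re * -(χ x).re :=
      Finset.sum_le_sum fun χ hχ => by
        have a1 := (dd χ (Finset.mem_of_mem_erase hχ)).1
        have a2 := e' χ hχ
        have a3 := Finset.single_le_sum (f := fun χ : G → ℂ => (χ 1).re * -(χ x).re)
          (fun χ hχ => mul_nonneg (by linarith [(dd χ (Finset.mem_of_mem_erase hχ)).1])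
            (e' χ hχ)) hχ
        nlinarith
    have s5 : (4 : ℝ) < Nat.card Z := by exact_mod_cast h.big
    simp only [Complex.one_re, Complex.zero_re] at s3
    linarith
  have t1 : 1 ≤ r * ∑ χ ∈ irrs (⊤ : Subgroup G), ‖χ x‖ ^ 2 * (χ x).re / (χ 1).re := by
    have a1 := Finset.single_le_sum
      (f := fun χ : G → ℂ => ‖χ x‖ ^ 2 + r * (‖χ x‖ ^ 2 * (χ x).re / (χ 1).re)) (fun χ hχ => by
        have a2 := (dd χ (Finset.mem_of_mem_erase hχ)).1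
        have a3 := p1 χ (Finset.mem_of_mem_erase hχ)
        rw [show ‖χ x‖ ^ 2 + r * (‖χ x‖ ^ 2 * (χ x).re / (χ 1).re) =
          ‖χ x‖ ^ 2 * ((χ 1).re + r * (χ x).re) / (χ 1).re by field_simp]
        positivity) h0
    have a2 := Finset.add_sum_erase _
      (fun χ : G → ℂ => ‖χ x‖ ^ 2 + r * (‖χ x‖ ^ 2 * (χ x).re / (χ 1).re)) o1
    rw [Finset.sum_add_distrib (s := irrs _), s1, ← Finset.mul_sum, hr] at a2
    have a3 := p2 χ0 (Finset.mem_of_mem_erase h0) fun e => by simp [e] at h1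
    have a4 := (dd χ0 (Finset.mem_of_mem_erase h0)).1
    have a5 : 0 ≤ r * (‖χ0 x‖ ^ 2 * (χ0 x).re / (χ0 1).re) := by positivity
    simp only [o2, norm_one, one_pow, Complex.one_re, mul_one, div_one, Nat.cast_add,
      Nat.cast_one] at a1 a2
    linarith
  have t2 : ∑ p : G × G, ∑ χ ∈ irrs (⊤ : Subgroup G),
      χ (p.1⁻¹ * x * p.1 * (p.2⁻¹ * x⁻¹ * p.2)) * conj (χ x) = _ :=
    Finset.sum_congr rfl fun p _ => column_orth (mem_top _) (mem_top x)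
  rw [← Finset.sum_filter, Finset.sum_const, cZ, Finset.sum_comm, Finset.sum_congr rfl
    fun χ hχ => by rw [← Finset.sum_mul, Fintype.sum_prod_type, T3.sum_irr (ir hχ)]] at t2
  have t3 := congrArg Complex.re t2
  rw [Complex.re_sum, Finset.sum_congr rfl
    (g := fun χ => (Nat.card G : ℝ) ^ 2 * (‖χ x‖ ^ 2 * (χ x).re / (χ 1).re)) fun χ hχ => by
      rw [← (ir hχ).vchr.conj_eq, Complex.mul_conj', (dd χ hχ).2, ← Complex.ofReal_natCast,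
        ← Complex.ofReal_pow, ← Complex.ofReal_pow, ← Complex.ofReal_mul, ← Complex.ofReal_div,
        Complex.re_ofReal_mul, Complex.conj_re, Complex.ofReal_re]
      ring, ← Finset.mul_sum, nsmul_eq_mul, ← Nat.cast_mul, Complex.natCast_re] at t3
  have t4 : (Nat.card G : ℝ) ^ 2 ≤ r * (Nat.card G * (Nat.card Z * Nat.card (Nor Z)) : ℕ) := by
    refine le_trans ?_ (mul_le_mul_of_nonneg_left (Nat.cast_le.2 h.count) (Nat.cast_nonneg r))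
    rw [← t3, mul_left_comm]
    exact le_mul_of_one_le_right (sq_nonneg _) t1
  have t5 : Nat.card G * Nat.card G ≤ Nat.card G * (r * (Nat.card Z * Nat.card (Nor Z))) := by
    rw [mul_left_comm, ← sq]; exact_mod_cast t4
  have t6 := (Nat.mul_le_mul_left _ b1).trans (b2.trans (Nat.le_of_mul_le_mul_left t5 Nat.card_pos))
  have := Nat.le_of_mul_le_mul_right t6 (Nat.mul_pos Nat.card_pos Nat.card_pos)
  omega

end L3

variable [Finite G]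

theorem L4 {H Y Z L : Subgroup G} {x : G} (YH : Y ≤ H) (cY : H ≤ Cen Y)
    (Y3 : ∀ y ∈ Y, y ^ 3 = 1 → y = 1) (ZH : Z ≤ H) (comm : ∀ a ∈ Z, ∀ b ∈ Z, a * b = b * a)
    (cube : ∀ a ∈ Z, a ^ 3 = 1)
    (cen : ∀ a ∈ Z, a ≠ 1 → ∀ g ∈ H, g * a = a * g → ∃ z ∈ Z, ∃ y ∈ Y, g = z * y) (mem : x ∈ Z)
    (cls : ∀ z ∈ Z, z ≠ 1 → ∃ g ∈ H, g * x * g⁻¹ = z ∨ g * x * g⁻¹ = z⁻¹)
    (nc : ∀ g, g * x * g⁻¹ ≠ x⁻¹) (big : 4 < Nat.card Z) (nor : ∀ n ∈ H, n ∈ Nor Z → n ∈ L)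
    (YL : Y ≤ L) (ex : ∃ l ∈ L, l ∈ H ∧ l ∉ Nor Z) : H ≤ L := by
  haveI : (Y.subgroupOf H).Normal := ⟨fun a ha g => cmem (K := Y) (cnor cY g.2) ha⟩
  let f := QuotientGroup.mk' (Y.subgroupOf H)
  have sf : Function.Surjective f := QuotientGroup.mk'_surjective _
  have k0 : ∀ a b : H, f a = f b ↔ a.1⁻¹ * b ∈ Y := fun a b => QuotientGroup.eq
  have k3 : ∀ a b : H, a.1 ^ 3 = 1 → b.1 ^ 3 = 1 → f a = f b → a.1 = b := fun a b ha hb e => by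
    have h1 := (k0 a b).1 e
    have h2 : Commute a.1 (a.1⁻¹ * b) := GW.cen.1 (cY a.2) _ h1
    have h3 := h2.mul_pow 3
    rw [mul_inv_cancel_left, ha, hb, one_mul] at h3
    exact inv_mul_eq_one.1 (Y3 _ h1 h3.symm)
  have kN : ∀ n : H, f n ∈ Nor ((Z.subgroupOf H).map f) → n.1 ∈ Nor Z := fun n hn =>
    mnor fun z hz => by
      obtain ⟨w, hw, e⟩ := cmem hn (mem_map_of_mem f (show (⟨z, ZH hz⟩ : H) ∈ Z.subgroupOf H from hz))
      rw [← map_inv, ← map_mul, ← map_mul] at e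
      exact mem_of_eq hw (k3 _ _ (cube _ hw) (cube_conj (cube z hz) n.1) e)
  haveI := Fintype.ofFinite (H ⧸ Y.subgroupOf H)
  have t : L3 ((Z.subgroupOf H).map f) ((L.subgroupOf H).map f) (f ⟨x, ZH mem⟩) :=
    { comm := by
        rintro _ ⟨a, ha, rfl⟩ _ ⟨b, hb, rfl⟩
        rw [← map_mul, ← map_mul, show a * b = b * a from Subtype.ext (comm a ha b hb)]
      cube := by
        rintro _ ⟨a, ha, rfl⟩
        rw [← map_pow, show a ^ 3 = 1 from Subtype.ext (cube a ha), map_one]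
      cen := by
        rintro _ ⟨a, ha, rfl⟩ a1 g e
        obtain ⟨g, rfl⟩ := sf g
        rw [← mul_inv_eq_iff_eq_mul, ← map_inv, ← map_mul, ← map_mul] at e
        obtain ⟨z, hz, y, hy, e1⟩ := cen a ha (fun e => a1 (by
          rw [show a = 1 from Subtype.ext e, map_one])) g g.2 (mul_inv_eq_iff_eq_mul.1
          (k3 _ _ (cube_conj (cube a ha) g.1) (cube a ha) e))
        exact ⟨⟨z, ZH hz⟩, hz, (k0 _ _).2 (by simpa [e1] using hy)⟩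
      mem := mem_map_of_mem f mem
      cls := by
        rintro _ ⟨a, ha, rfl⟩ a1
        obtain ⟨g, hg, e⟩ := cls a ha fun e => a1 (by rw [show a = 1 from Subtype.ext e, map_one])
        refine e.imp (fun e => isConj_iff.2 ⟨f ⟨g, hg⟩, ?_⟩) fun e => isConj_iff.2 ⟨f ⟨g, hg⟩, ?_⟩
        · rw [← map_inv, ← map_mul, ← map_mul]; exact congrArg f (Subtype.ext e)
        · rw [← map_inv, ← map_mul, ← map_mul, ← map_inv]; exact congrArg f (Subtype.ext e)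
      nc := fun e => by
        obtain ⟨g, e⟩ := isConj_iff.1 e
        obtain ⟨g, rfl⟩ := sf g
        rw [← map_inv, ← map_mul, ← map_mul, ← map_inv] at e
        exact nc g (k3 _ _ (cube_conj (cube x mem) g.1) (cube _ (inv_mem mem)) e)
      big := big.trans_le (Nat.card_le_card_of_injective
        (fun z : Z => (⟨f ⟨z, ZH z.2⟩, mem_map_of_mem f z.2⟩ : (Z.subgroupOf H).map f))
        fun a b e => Subtype.ext (k3 _ _ (cube _ a.2) (cube _ b.2) (congrArg Subtype.val e)))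
      nor := fun n hn => by
        obtain ⟨n, rfl⟩ := sf n
        exact mem_map_of_mem f (nor n n.2 (kN n hn))
      ex := by
        obtain ⟨l, h1, h2, h3⟩ := ex
        exact ⟨f ⟨l, h2⟩, mem_map_of_mem f h1, fun e => h3 (kN _ e)⟩ }
  intro g hg
  obtain ⟨l, hl, e⟩ : f ⟨g, hg⟩ ∈ (L.subgroupOf H).map f := t.main ▸ mem_top _
  exact mem_of_eq (mul_mem hl (YL ((k0 _ _).1 e))) (by simp)

theorem zmod {H Y A K : Subgroup G} {x : G} {p : ℕ} [Fact p.Prime] (YH : Y ≤ H) (hn : H ≤ Nor Y)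
    (xH : x ∈ H) (xY : x ∉ Y) (x2 : x * x ∈ Y)
    (iso : ∀ g ∈ H, g * x * g⁻¹ * x * (g * x * g⁻¹)⁻¹ * x⁻¹ ∈ Y → g * x * g⁻¹ * x⁻¹ ∈ Y)
    (cx : ∀ h ∈ H, h * x * h⁻¹ * x⁻¹ ∈ Y → h ∈ K) (AH : A ≤ H)
    (comm : ∀ a ∈ A, ∀ b ∈ A, a * b * a⁻¹ * b⁻¹ ∈ Y) (ex : ∀ a ∈ A, a ^ p ∈ Y)
    (ncy : ∀ a ∈ A, ∃ b ∈ A, ∀ k : ℤ, a ^ k * b⁻¹ ∉ Y)
    (cA : ∀ a ∈ A, a ∉ Y → ∀ h ∈ H, h * a * h⁻¹ * a⁻¹ ∈ Y → h ∈ K)
    (cop : p = 2 ∨ ∀ O : Subgroup G, O ≤ H → (∀ g ∈ H, ∀ s ∈ O, g * s * g⁻¹ ∈ O) →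
      (∀ s ∈ O, s * s ∈ Y → s ∈ Y) → ∀ c ∈ O, c ^ p ∈ Y → (∀ a ∈ A, c * a * c⁻¹ * a⁻¹ ∈ Y) → c ∈ Y) :
    H ≤ K := by
  haveI : (Y.subgroupOf H).Normal := ⟨fun a ha g => cmem (K := Y) (hn g.2) ha⟩
  let f := QuotientGroup.mk' (Y.subgroupOf H)
  have sf : Function.Surjective f := QuotientGroup.mk'_surjective _
  have k0 : ∀ a : H, f a = 1 ↔ a.1 ∈ Y := fun a => QuotientGroup.eq_one_iff a
  have k1 : ∀ a b : H, f a = f b ↔ a.1 * b.1⁻¹ ∈ Y := fun a b => by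
    rw [← mul_inv_eq_one, ← map_inv, ← map_mul]; exact k0 _
  have k2 : ∀ a b : H, f a ∈ Cen1 (f b) ↔ a.1 * b * a.1⁻¹ * b.1⁻¹ ∈ Y := fun a b => by
    rw [c1', ← map_inv, ← map_mul, ← map_mul]; exact k1 _ _
  have YK : Y ≤ K := fun y hy => cx y (YH hy) (mem_of_eq (mul_mem hy (cmem (hn xH) (inv_mem hy)))
    (by group))
  obtain ⟨P, hP, -⟩ := H5.exists_isSylowOf_ge (q := 2) IsPGroup.of_bot
    (bot_le : _ ≤ ⊤ ⊓ Cen1 (f ⟨x, xH⟩))
  have z := MT.zstar_in (orderOf_eq_prime (by rw [sq, ← map_mul]; exact (k0 _).2 x2)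
    ((k0 _).not.2 xY)) (mem_top _) hP fun y hy ⟨g, _, e⟩ => by
      obtain ⟨g, rfl⟩ := sf g
      have := (hP.1 hy).2
      rw [← e, ← map_inv, ← map_mul, ← map_mul] at this ⊢
      exact (k1 _ _).2 (iso g g.2 ((k2 _ _).1 this))
  have nO : ∀ {X : Subgroup (H ⧸ Y.subgroupOf H)}, X ≤ Nor (Oo ⊤) := fun {X} => le_top.trans (lOo ⊤)
  have pA : IsPGroup p ((A.subgroupOf H).map f) := by
    rintro ⟨_, a, ha, rfl⟩
    exact ⟨1, Subtype.ext (by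
      rw [pow_one, SubgroupClass.coe_pow, ← map_pow]; exact (k0 _).2 (ex a ha))⟩
  have nd : ¬ p ∣ Nat.card (Oo (⊤ : Subgroup (H ⧸ Y.subgroupOf H))) := fun hd => by
    rcases cop with rfl | cop
    · exact (odd_Oo ⊤).not_two_dvd_nat hd
    obtain ⟨R, hR, AR⟩ := H5.exists_isSylowOf_ge pA le_top
    obtain ⟨c, h1, h2, h3, -, h4⟩ := U6.exists_fixed (hR.2.to_le (inf_le_left : R ⊓ Oo ⊤ ≤ R)) pA
      (ninf (lnor AR) nO) fun e => (hR.inf_of_le_normalizer le_top nO).3 (by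
        rwa [e, relIndex_bot_left])
    obtain ⟨c, rfl⟩ := sf c
    refine h2 ((k0 c).2 (cop (((Oo ⊤).comap f).map H.subtype) (map_subtype_le _) ?_ ?_ c
      (mem_map_of_mem _ h1.2) ((k0 (c ^ p)).1 (by rwa [map_pow])) fun a ha =>
      (k2 c ⟨a, AH ha⟩).1 (c1.2 (GW.cen.1 h4 _ (mem_map_of_mem f ha)))))
    · rintro g hg _ ⟨s, hs, rfl⟩
      refine ⟨⟨g, hg⟩ * s * ⟨g, hg⟩⁻¹, ?_, rfl⟩
      rw [SetLike.mem_coe, mem_comap, map_mul, map_mul, map_inv]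
      exact cmem (nO (mem_top _)) hs
    · rintro _ ⟨s, hs, rfl⟩ e
      have h5 := odd_ord (odd_Oo ⊤) hs
      have h6 := orderOf_dvd_of_pow_eq_one (show f s ^ 2 = 1 by
        rw [sq, ← map_mul]; exact (k0 _).2 e)
      exact (k0 s).1 (orderOf_eq_one_iff.1 (Nat.Coprime.eq_one_of_dvd (odd_iff_cop.1 h5) h6))
  have kK : ∀ a : H, f a ∈ (K.subgroupOf H).map f → a.1 ∈ K := fun a ⟨b, hb, e⟩ =>
    mem_of_eq (mul_mem (inv_mem (YK ((k1 _ _).1 e))) hb) (by simp)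
  refine fun g hg => kK ⟨g, hg⟩ (z.trans (sup_le (fun h hh => ?_)
    (H5.le_of_centralizer_singleton (A := (A.subgroupOf H).map f) ⟨⟨?_⟩⟩ (fun hc => ?_) nO
      (by
        obtain ⟨k, e⟩ := pA.exists_card_eq
        rw [e]
        exact ((Nat.Prime.coprime_iff_not_dvd Fact.out).2 nd).pow_left k) ?_)) (mem_top _))
  · obtain ⟨h, rfl⟩ := sf h
    exact mem_map_of_mem f (cx h h.2 ((k2 _ _).1 hh.2))
  · rintro ⟨_, a, ha, rfl⟩ ⟨_, b, hb, rfl⟩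
    exact Subtype.ext (c1.1 ((k2 a b).2 (comm a ha b hb)))
  · obtain ⟨⟨_, a, ha, rfl⟩, hz⟩ := hc.exists_generator
    obtain ⟨b, hb, e⟩ := ncy a ha
    obtain ⟨k, hk⟩ := hz ⟨f ⟨b, AH hb⟩, mem_map_of_mem f hb⟩
    exact e k ((k1 (a ^ k) ⟨b, AH hb⟩).1 (by rw [map_zpow]; exact congrArg Subtype.val hk))
  · rintro _ ⟨a, ha, rfl⟩ a1 h hh
    obtain ⟨h, rfl⟩ := sf h
    exact mem_map_of_mem f (cA a ha ((k0 a).not.1 a1) h h.2 ((k2 _ _).1 hh.2))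

theorem zp2 {t e : G} (h : t * t = 1) (he : e ∈ zpowers t) : e = 1 ∨ e = t := by
  obtain ⟨k, rfl⟩ := mem_zpowers_iff.1 he
  have h2 : t ^ (2 : ℤ) = 1 := by rw [zpow_two, h]
  obtain ⟨j, rfl | rfl⟩ := Int.even_or_odd' k
  · left; rw [zpow_mul, h2, one_zpow]
  · right; rw [zpow_add, zpow_mul, h2, one_zpow, one_mul, zpow_one]

theorem zmod2 {H Y K : Subgroup G} {x a b : G} (YH : Y ≤ H) (hn : H ≤ Nor Y)
    (xH : x ∈ H) (xY : x ∉ Y) (x2 : x * x ∈ Y)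
    (iso : ∀ g ∈ H, g * x * g⁻¹ * x * (g * x * g⁻¹)⁻¹ * x⁻¹ ∈ Y → g * x * g⁻¹ * x⁻¹ ∈ Y)
    (cx : ∀ h ∈ H, h * x * h⁻¹ * x⁻¹ ∈ Y → h ∈ K) (aH : a ∈ H) (bH : b ∈ H) (a2 : a * a ∈ Y)
    (b2 : b * b ∈ Y) (ab : a * b * a⁻¹ * b⁻¹ ∈ Y) (aY : a ∉ Y) (bY : b ∉ Y) (abY : a * b⁻¹ ∉ Y)
    (cA : ∀ c, c = a ∨ c = b ∨ c = a * b → ∀ h ∈ H, h * c * h⁻¹ * c⁻¹ ∈ Y → h ∈ K) : H ≤ K := by
  haveI : (Y.subgroupOf H).Normal := ⟨fun a ha g => cmem (K := Y) (hn g.2) ha⟩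
  let f := QuotientGroup.mk' (Y.subgroupOf H)
  have k0 : ∀ a : H, f a = 1 ↔ a.1 ∈ Y := fun a => QuotientGroup.eq_one_iff a
  have k1 : ∀ a b : H, f a = f b ↔ a.1 * b.1⁻¹ ∈ Y := fun a b => by
    rw [← mul_inv_eq_one, ← map_inv, ← map_mul]; exact k0 _
  have k2 : ∀ a b : H, f a * f b = f b * f a ↔ a.1 * b * a.1⁻¹ * b.1⁻¹ ∈ Y := fun a b => by
    rw [← mul_inv_eq_iff_eq_mul, ← map_inv, ← map_mul, ← map_mul]; exact k1 _ _
  have e1 : f ⟨a, aH⟩ * f ⟨a, aH⟩ = 1 := by rw [← map_mul]; exact (k0 _).2 a2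
  have e2 : f ⟨b, bH⟩ * f ⟨b, bH⟩ = 1 := by rw [← map_mul]; exact (k0 _).2 b2
  have e3 := (k2 ⟨a, aH⟩ ⟨b, bH⟩).2 ab
  refine zmod (p := 2) (A := ((four _ _ e1 e2 e3).comap f).map H.subtype) YH hn xH xY x2 iso cx
    (map_subtype_le _) ?_ ?_ ?_ ?_ (Or.inl rfl)
  · rintro _ ⟨c, hc, rfl⟩ _ ⟨d, hd, rfl⟩
    exact (k2 c d).1 (congrArg Subtype.val ((elem_four e1 e2 e3).1.1.comm ⟨_, hc⟩ ⟨_, hd⟩))
  · rintro _ ⟨c, hc, rfl⟩
    exact (k0 (c ^ 2)).1 (by rw [map_pow]; exact (elem_four e1 e2 e3).2 _ hc)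
  · rintro _ ⟨c, hc, rfl⟩
    have k : ∀ (d : H) (n : ℤ), c.1 ^ n * d.1⁻¹ ∈ Y → d.1 ∈ Y ∨ f d = f c := fun d n e =>
      (zp2 (by rw [← sq]; exact (elem_four e1 e2 e3).2 _ hc)
        ⟨n, by rw [← (k1 (c ^ n) d).2 e, map_zpow]⟩).imp_left (k0 d).1
    by_cases h : f ⟨a, aH⟩ = f c
    · exact ⟨b, ⟨⟨b, bH⟩, right_mem_four e1 e2 e3, rfl⟩, fun n e =>
        (k ⟨b, bH⟩ n e).elim bY fun e => abY ((k1 _ _).1 (h.trans e.symm))⟩
    · exact ⟨a, ⟨⟨a, aH⟩, left_mem_four e1 e2 e3, rfl⟩, fun n e => (k ⟨a, aH⟩ n e).elim aY h⟩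
  · rintro _ ⟨c, hc, rfl⟩ cY h hh e
    have e4 := (k2 ⟨h, hh⟩ c).2 e
    rcases (mem_four e1 e2 e3).1 hc with e | e | e | e
    · exact absurd ((k0 c).1 e) cY
    · exact cA a (Or.inl rfl) h hh ((k2 ⟨h, hh⟩ ⟨a, aH⟩).1 (e ▸ e4))
    · exact cA b (Or.inr (Or.inl rfl)) h hh ((k2 ⟨h, hh⟩ ⟨b, bH⟩).1 (e ▸ e4))
    · exact cA _ (Or.inr (Or.inr rfl)) h hh ((k2 ⟨h, hh⟩ (⟨a, aH⟩ * ⟨b, bH⟩)).1 (by
        rw [map_mul, ← e]; exact e4))

theorem dih {a b : G} (ha : a * a = 1) (hb : b * b = 1) (h : ¬ IsConj a b) :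
    ∃ u, u ≠ 1 ∧ u * u = 1 ∧ u * a = a * u ∧ u * b = b * u ∧ (IsConj a (a * u) ∨ IsConj b (a * u)) := by
  obtain ⟨u, hu, ou, c1, c2⟩ := H9.exists_invol_comm ha hb h
  refine ⟨u, fun e => by simp [e] at ou, by rw [← sq, ← ou, pow_orderOf_eq_one], c1, c2, ?_⟩
  obtain ⟨k, rfl⟩ := mem_zpowers_iff.1 hu
  have e1 : ∀ j : ℤ, (a * b) ^ (-j) * a = a * (a * b) ^ j := fun j => by
    rw [← L.conj_zpow_of_invol' ha hb j]; group
  have e2 : ∀ j : ℤ, (a * b) ^ (-j) * b = b * (a * b) ^ j := fun j => by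
    rw [← L.conj_zpow_of_invol ha hb j]; group
  obtain ⟨j, rfl | rfl⟩ := Int.even_or_odd' k
  · exact Or.inl (isConj_iff.2 ⟨(a * b) ^ (-j), by rw [e1]; group⟩)
  · refine Or.inr (isConj_iff.2 ⟨(a * b) ^ (-j), ?_⟩)
    have : b = a * (a * b) := by rw [← mul_assoc, ha, one_mul]
    rw [e2]; nth_rewrite 1 [this]; generalize a * b = c; group

theorem dmod {H Y : Subgroup G} {a b : G} (hn : H ≤ Nor Y) (aH : a ∈ H) (bH : b ∈ H)
    (ha : a * a ∈ Y) (hb : b * b ∈ Y) (h : ∀ g ∈ H, g * a * g⁻¹ * b⁻¹ ∉ Y) :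
    ∃ u ∈ H, u ∉ Y ∧ u * u ∈ Y ∧ u * a * u⁻¹ * a⁻¹ ∈ Y ∧ b * u * b⁻¹ * u⁻¹ ∈ Y ∧
      ∃ g ∈ H, g * a * g⁻¹ * (a * u)⁻¹ ∈ Y ∨ g * b * g⁻¹ * (a * u)⁻¹ ∈ Y := by
  haveI : (Y.subgroupOf H).Normal := ⟨fun a ha g => cmem (K := Y) (hn g.2) ha⟩
  let f := QuotientGroup.mk' (Y.subgroupOf H)
  have sf : Function.Surjective f := QuotientGroup.mk'_surjective _
  have k0 : ∀ a : H, f a = 1 ↔ a.1 ∈ Y := fun a => QuotientGroup.eq_one_iff a
  have k1 : ∀ a b : H, f a = f b ↔ a.1 * b.1⁻¹ ∈ Y := fun a b => by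
    rw [← mul_inv_eq_one, ← map_inv, ← map_mul]; exact k0 _
  have k2 : ∀ a b : H, IsConj (f a) (f b) → ∃ g ∈ H, g * a * g⁻¹ * b.1⁻¹ ∈ Y := fun a b e => by
    obtain ⟨g, e⟩ := isConj_iff.1 e
    obtain ⟨g, rfl⟩ := sf g
    rw [← map_inv, ← map_mul, ← map_mul] at e
    exact ⟨g, g.2, (k1 _ _).1 e⟩
  obtain ⟨u, h1, h2, h3, h4, h5⟩ := dih (a := f ⟨a, aH⟩) (b := f ⟨b, bH⟩)
    (by rw [← map_mul]; exact (k0 _).2 ha) (by rw [← map_mul]; exact (k0 _).2 hb)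
    fun e => by obtain ⟨g, hg, e⟩ := k2 _ _ e; exact h g hg e
  obtain ⟨u, rfl⟩ := sf u
  rw [← map_mul] at h2 h5
  rw [← map_mul, ← map_mul] at h3 h4
  refine ⟨u, u.2, (k0 u).not.1 h1, (k0 _).1 h2, mem_of_eq ((k1 _ _).1 h3) (by simp [mul_assoc]),
    mem_of_eq ((k1 _ _).1 h4.symm) (by simp [mul_assoc]), ?_⟩
  rcases h5 with e | e <;> obtain ⟨g, hg, e⟩ := k2 _ _ e
  · exact ⟨g, hg, Or.inl e⟩
  · exact ⟨g, hg, Or.inr e⟩

end HY
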