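import Cfsg.Agent.HY.D

/-! Computations in the Levi factor `SL₂(q)` of `q^{1+2} : SL₂(q)`. -/

set_option autoImplicit false
set_option linter.unusedSectionVars false
set_option linter.unusedVariables false
set_option linter.unusedSimpArgs false

namespace HY

open Subgroup H9.HC
open H9 (HC bo V3)

variable {F : Type*} [Field F]

/-- the Levi factor -/
def L0 (F : Type*) [Field F] : Subgroup (HC F) where
  carrier := {g | g.u = 0 ∧ g.v = 0 ∧ g.z = 0}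
  one_mem' := ⟨rfl, rfl, rfl⟩
  mul_mem' := fun {g h} hg hh => by simp [hg.1, hg.2.1, hg.2.2, hh.1, hh.2.1, hh.2.2]
  inv_mem' := fun {g} hg => by simp [hg.1, hg.2.1, hg.2.2]

/-- the projection onto the Levi factor -/
def pl : HC F →* HC F := MonoidHom.mk' (fun g => ⟨0, 0, 0, g.a, g.b, g.c, g.d, g.det⟩)
  fun g h => by ext <;> simp

/-- the split torus -/
def hh : Fˣ →* HC F := MonoidHom.mk' (fun a => ⟨0, 0, 0, a, 0, 0, (a⁻¹ : Fˣ), by simp⟩)
  fun g h => by ext <;> simp [mul_comm]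

/-- the diagonal automorphisms -/
def dl (a : Fˣ) : HC F →* HC F :=
  MonoidHom.mk' (fun g => ⟨a * g.u, a * g.v, a ^ 2 * g.z, g.a, g.b, g.c, g.d, g.det⟩)
  fun g h => by ext <;> simp <;> ring

/-- the swap -/
def sw (v : V3 F) : V3 F := (v.2.2, v.2.1, v.1)

theorem hh_def (a : Fˣ) : hh a = ⟨0, 0, 0, a, 0, 0, (a⁻¹ : Fˣ), by simp⟩ := rfl
theorem pl_def (g : HC F) : pl g = ⟨0, 0, 0, g.a, g.b, g.c, g.d, g.det⟩ := rfl
theorem dl_def (a : Fˣ) (g : HC F) :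
    dl a g = ⟨a * g.u, a * g.v, a ^ 2 * g.z, g.a, g.b, g.c, g.d, g.det⟩ := rfl
theorem pl_mem (g : HC F) : pl g ∈ L0 F := ⟨rfl, rfl, rfl⟩
theorem pl_eq {g : HC F} (h : g ∈ L0 F) : pl g = g := by
  ext <;> simp [pl_def, h.1, h.2.1, h.2.2]
theorem dl_eq (a : Fˣ) {g : HC F} (h : g ∈ L0 F) : dl a g = g := by
  ext <;> simp [dl_def, h.1, h.2.1, h.2.2]
theorem hh_mem (a : Fˣ) : hh a ∈ L0 F := ⟨rfl, rfl, rfl⟩
theorem tt_mem : tt ∈ L0 F := ⟨rfl, rfl, rfl⟩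
theorem ii_mem : ii ∈ L0 F := ⟨rfl, rfl, rfl⟩
theorem mx_mem (x : F) : m0 (x, 0, 0) ∈ L0 F := ⟨neg_zero, rfl, rfl⟩
theorem uu_mem : uu ∈ L0 F := mx_mem 1
theorem jj_mem : jj ∈ L0 F := mul_mem (mul_mem uu_mem ii_mem) (inv_mem uu_mem)
theorem hh_neg : hh (-1 : Fˣ) = tt := by ext <;> simp [hh_def, tt]
theorem L0_tt {g : HC F} (h : g ∈ L0 F) : g * tt = tt * g := by
  ext <;> simp [tt, h.1, h.2.1, h.2.2]
theorem ii_hh (a : Fˣ) : ii * hh a * ii⁻¹ = hh a⁻¹ := by ext <;> simp [ii, hh_def]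
theorem hh_m0 (a : Fˣ) (x b z : F) :
    hh a * m0 (x, b, z) * (hh a)⁻¹ = m0 (a ^ 2 * x, a * b, z) := by
  rw [conj_m0 rfl]; simp [bo, hh_def]
theorem xa_m0 (s : F) (v : V3 F) : qq 0 s 0 * m0 v * (qq 0 s 0)⁻¹ = m0 (bo 1 s v) := by
  rw [conj_m0 rfl]; simp [qq]
theorem hh_xa (a : Fˣ) (s : F) : hh a * qq 0 s 0 * (hh a)⁻¹ = qq 0 (a⁻¹ * s) 0 := by
  ext <;> simp [qq, hh_def]
theorem dl_xa (a : Fˣ) (s : F) : dl a (qq 0 s 0) = qq 0 (a * s) 0 := by
  ext <;> simp [qq, dl_def]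
theorem dl_m0 (a : Fˣ) (x b z : F) : dl a (m0 (x, b, z)) = m0 (x, a * b, a ^ 2 * z) := by
  ext <;> simp [m0, dl_def]
theorem dl_zz (a : Fˣ) (z : F) : dl a (zz z) = zz (a ^ 2 * z) := by ext <;> simp [zz, dl_def]
theorem xa_ii (s : F) : qq 0 s 0 * ii = ii * m0 (0, -s, 0) := by ext <;> simp [qq, ii, m0]
theorem split (g : HC F) : g = m0 (0, -g.u, g.z - g.u * g.v) * qq 0 g.v 0 * pl g := by
  ext <;> simp [m0, qq, pl_def]
theorem ii_uu {x y : F} : ii * m0 (x, 0, 0) * ii⁻¹ = m0 (y, 0, 0) → x = 0 := fun e => by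
  simpa [ii, m0] using congrArg H9.HC.c e

theorem bruhat {g : HC F} (h : g ∈ L0 F) : (∃ a x, g = m0 (x, 0, 0) * hh a) ∨
    ∃ x a y, g = m0 (x, 0, 0) * hh a * ii * m0 (y, 0, 0) := by
  obtain ⟨h1, h2, h3⟩ := h
  have hd := g.det
  by_cases hc : g.c = 0
  · rw [hc, mul_zero, sub_zero] at hd
    have ha := left_ne_zero_of_mul_eq_one hd
    refine Or.inl ⟨Units.mk0 g.a ha, g.b * g.a, ?_⟩
    ext <;> simp [m0, hh_def, h1, h2, h3, hc, ha]
    exact eq_inv_of_mul_eq_one_right hd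
  · refine Or.inr ⟨g.a / g.c, (Units.mk0 g.c hc)⁻¹, g.d / g.c, ?_⟩
    ext <;> simp [m0, hh_def, ii, h1, h2, h3, hc]
    · field_simp; linear_combination -hd
    · field_simp

theorem pow_z {g : HC F} (h1 : g.u = 0) (h2 : g.v = 0) (n : ℕ) :
    (g ^ n).u = 0 ∧ (g ^ n).v = 0 ∧ (g ^ n).z = n * g.z := by
  induction n with
  | zero => simp
  | succ n ih => simp [pow_succ, ih.1, ih.2.1, ih.2.2, h1, h2, add_mul]

theorem anti {n : HC F} {a : Fˣ} (ha : (a : F) ^ 2 ≠ 1) (h : n * hh a * n⁻¹ = (hh a)⁻¹) :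
    n.a = 0 ∧ n.d = 0 := by
  rw [mul_inv_eq_iff_eq_mul] at h
  have b1 := congrArg H9.HC.a h
  have b2 := congrArg H9.HC.d h
  simp [hh_def] at b1 b2
  field_simp at b1 b2
  exact ⟨mul_left_cancel₀ (sub_ne_zero.2 ha) (by linear_combination b1),
    mul_left_cancel₀ (sub_ne_zero.2 ha) (by linear_combination -b2)⟩

theorem anti_sq {n : HC F} (hn : n ∈ L0 F) (h : n.a = 0 ∧ n.d = 0) : n * n = tt := by
  have hd := n.det
  ext <;> simp [tt, hn.1, hn.2.1, hn.2.2, h.1, h.2] <;> rw [h.1] at hd <;> linear_combination -hd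

theorem cen_hh {n : HC F} (hn : n ∈ L0 F) {a : Fˣ} (ha : (a : F) ^ 2 ≠ 1)
    (h : n * hh a = hh a * n) : ∃ b, hh b = n := by
  have b1 := congrArg H9.HC.b h
  have b2 := congrArg H9.HC.c h
  have hd := n.det
  simp [hh_def] at b1 b2
  field_simp at b1 b2
  have c1 : n.b = 0 := mul_left_cancel₀ (sub_ne_zero.2 ha) (by linear_combination -b1)
  have c2 : n.c = 0 := mul_left_cancel₀ (sub_ne_zero.2 ha) (by linear_combination b2)
  rw [c1, zero_mul, sub_zero] at hd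
  refine ⟨Units.mk0 n.a (left_ne_zero_of_mul_eq_one hd), ?_⟩
  ext <;> simp [hh_def, hn.1, hn.2.1, hn.2.2, c1, c2]
  exact (eq_inv_of_mul_eq_one_right hd).symm

theorem cen_ii {g : HC F} (h : g * ii = ii * g) : g.d = g.a ∧ g.c = -g.b := by
  have b4 := congrArg H9.HC.a h
  have b5 := congrArg H9.HC.b h
  simp [ii] at b4 b5
  exact ⟨b5.symm, by rw [b4, neg_neg]⟩

theorem conj_ii [Finite F] (h2 : (2 : F) ≠ 0) (nsq : ∀ r : F, r ^ 2 ≠ -1) {g : HC F}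
    (hg : g ∈ L0 F) (h : g * g = tt) : ∃ k ∈ L0 F, k * ii * k⁻¹ = g := by
  have b1 := congrArg H9.HC.a h
  have b3 := congrArg H9.HC.c h
  simp [tt] at b1 b3
  have hc : g.c ≠ 0 := fun e => nsq g.a (by rw [e] at b1; linear_combination b1)
  have hd : g.d = -g.a := mul_left_cancel₀ hc (by linear_combination b3)
  haveI := Fintype.ofFinite F
  obtain ⟨x, s, e⟩ := FiniteField.exists_root_sum_quadratic (R := F) (f := Polynomial.X ^ 2)
    (g := Polynomial.X ^ 2 - Polynomial.C g.c) (by simp) (Polynomial.degree_X_pow_sub_C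
    (by norm_num) _) (FiniteField.odd_card_of_char_ne_two fun e => h2 (by
      have := ringChar.Nat.cast_ringChar (R := F)
      rwa [e] at this))
  simp at e
  refine ⟨⟨0, 0, 0, (x + g.a * s) / g.c, g.a * ((x + g.a * s) / g.c) + g.b * s, s, x, by
    field_simp; linear_combination e - s ^ 2 * b1⟩, ⟨rfl, rfl, rfl⟩, ?_⟩
  rw [mul_inv_eq_iff_eq_mul]
  ext <;> simp [ii, hg.1, hg.2.1, hg.2.2, hd]
  · field_simp; linear_combination (-x - g.a * s) * b1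
  · field_simp; ring
  · field_simp; linear_combination (-s) * b1

section Three
variable (h3 : (3 : F) = 0)
include h3

theorem tt_split {g : HC F} (h : g * tt = tt * g) : g = zz g.z * pl g := by
  obtain ⟨c1, c2⟩ := cen_tt h3 h
  ext <;> simp [zz, pl_def, c1, c2]

theorem mem_L0 {g : HC F} (h : g * tt = tt * g) {n : ℕ} (hn : (n : F) ≠ 0) (e : g ^ n = 1) :
    g ∈ L0 F := by
  obtain ⟨c1, c2⟩ := cen_tt h3 h
  have := (pow_z c1 c2 n).2.2
  rw [e, one_z, eq_comm, mul_eq_zero] at this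
  exact ⟨c1, c2, this.resolve_left hn⟩

theorem uu_ii : ((uu : HC F) * ii) ^ 3 = tt := by
  ext <;> simp [pow_three', uu, ii, tt, m0]

theorem eq_ii {n : HC F} (hn : n ∈ L0 F) (h : n.a = 0 ∧ n.d = 0) (e : (uu * n) ^ 3 = tt) :
    n = ii := by
  have hd := n.det
  have b1 := congrArg H9.HC.c e
  have b2 := congrArg H9.HC.d e
  simp [pow_three', uu, tt, m0, h.1, h.2] at b1 b2
  rw [h.1] at hd
  have c1 : n.c = 1 := by linear_combination -b2 - n.c * hd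
  rw [c1] at hd
  ext <;> simp [ii, hn.1, hn.2.1, hn.2.2, h.1, h.2, c1]
  linear_combination -hd

theorem sq_one {a : HC F} (ha : a ∈ L0 F) (h : a * a = 1) : a = 1 ∨ a = tt :=
  or_iff_not_imp_left.2 (eq_tt h3 (L0_tt ha) h)

theorem cenL {a : HC F} (ha : a ∈ L0 F) (h : a * ii = ii * a) (h' : a * jj = jj * a) :
    a = 1 ∨ a = tt := by
  refine (cen_V h3 h h').imp (fun ⟨z, e⟩ => ?_) fun ⟨z, e⟩ => ?_
  · rw [← e, show z = 0 from (e ▸ ha).2.2, zz_zero]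
  · rw [show z = 0 from (e ▸ mul_mem ha tt_mem).2.2, zz_zero] at e
    rw [eq_inv_of_mul_eq_one_left e.symm, inv_eq_of_mul_eq_one_left tt_sq]

theorem T_cube {g : HC F} (hg : g ∈ L0 F) (h : g * ii = ii * g) (e : g ^ 3 = 1) : g = 1 := by
  obtain ⟨c1, c2⟩ := cen_ii h
  have b1 := congrArg H9.HC.a e
  have b2 := congrArg H9.HC.b e
  simp [pow_three', c1, c2] at b1 b2
  have c3 : g.b = 0 := pow_eq_zero_iff (n := 3) (by norm_num) |>.1 (by
    linear_combination -b2 + g.a ^ 2 * g.b * h3)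
  have c4 : g.a = 1 := sub_eq_zero.1 (pow_eq_zero_iff (n := 3) (by norm_num) |>.1 (by
    rw [c3] at b1; linear_combination b1 + (g.a - g.a ^ 2) * h3))
  ext <;> simp [hg.1, hg.2.1, hg.2.2, c1, c2, c3, c4]

theorem cen_M0 {g : HC F} (h : g * m0 (0, 1, 0) = m0 (0, 1, 0) * g) : g ∈ M0 F :=
  (cen_M h3 (m0_mem _) (fun e => one_ne_zero (m0_mem_Z.1 e).2) h).resolve_right
    fun e => e.1 (m0_mem_Q.2 rfl)

theorem conj_cube [Finite F] {y : HC F} (hy : y ∈ L0 F) (e : y ^ 3 = 1) :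
    ∃ k ∈ L0 F, ∃ x, k * y * k⁻¹ = m0 (x, 0, 0) := by
  obtain ⟨k, hk⟩ := conj_M h3 e
  obtain ⟨v, hv⟩ := mem_M0.1 hk
  refine ⟨pl k, pl_mem k, v.1, ?_⟩
  rw [← pl_eq hy, ← map_inv, ← map_mul, ← map_mul, ← hv]
  ext <;> simp [pl_def, m0]

variable (nsq : ∀ r : F, r ^ 2 ≠ -1)
include nsq

theorem no8 {c : HC F} : c * c * (c * c) ≠ tt := fun e => by
  have b1 := congrArg H9.HC.a e
  have b2 := congrArg H9.HC.d e
  have b3 := congrArg H9.HC.c e
  have hd := (c * c).det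
  have hc : (c * c).c ≠ 0 := fun h => nsq (c * c).a (by
    rw [mul_a, h] at b1; simp only [tt] at b1; linear_combination b1)
  have h1 : (c * c).a + (c * c).d = 0 := mul_left_cancel₀ hc (by
    rw [mul_c] at b3; simp only [tt] at b3; linear_combination b3)
  simp only [mul_a, mul_d] at h1
  exact nsq (c.a + c.d) (by linear_combination h1 + 2 * c.det + h3)

theorem T_sq {g : HC F} (hg : g ∈ L0 F) (h : g * ii = ii * g) (e : g * g = tt) :
    g = ii ∨ g = ii⁻¹ := by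
  obtain ⟨c1, c2⟩ := cen_ii h
  have b1 := congrArg H9.HC.a e
  have hd := g.det
  simp [tt, c2] at b1
  rw [c1, c2] at hd
  have c3 : g.a = 0 := pow_eq_zero_iff (n := 2) (by norm_num) |>.1
    (eq_zero_of_neg h3 (by linear_combination b1 + hd))
  rw [c3] at hd
  rcases mul_self_eq_one_iff.1 (show g.b * g.b = 1 by linear_combination hd) with e | e
  · right; ext <;> simp [ii, hg.1, hg.2.1, hg.2.2, c1, c2, c3, e]
  · left; ext <;> simp [ii, hg.1, hg.2.1, hg.2.2, c1, c2, c3, e]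

theorem exists_T {s : F} (h0 : s ≠ 0) (h1 : s ^ 2 ≠ 1) : ∃ g ∈ L0 F, g * ii = ii * g ∧
    g * g ≠ 1 ∧ g * g ≠ tt := by
  have h2 : 1 + s ^ 2 ≠ 0 := fun e => nsq s (by linear_combination e)
  have h4 : 2 * s / (1 + s ^ 2) * ((1 - s ^ 2) / (1 + s ^ 2)) ≠ 0 :=
    mul_ne_zero (div_ne_zero (mul_ne_zero (two_ne h3) h0) h2)
      (div_ne_zero (sub_ne_zero.2 h1.symm) h2)
  refine ⟨⟨0, 0, 0, (1 - s ^ 2) / (1 + s ^ 2), -(2 * s / (1 + s ^ 2)), 2 * s / (1 + s ^ 2),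
    (1 - s ^ 2) / (1 + s ^ 2), by field_simp; ring⟩, ⟨rfl, rfl, rfl⟩, by ext <;> simp [ii], ?_, ?_⟩
  all_goals
    intro e
    have := congrArg H9.HC.c e
    simp only [mul_c, one_c, tt] at this
    exact h4 (eq_zero_of_neg h3 (by linear_combination this))

end Three

end HY
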