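import Cfsg.Agent.HY.E

/-! A presentation-like characterization of `PSp₄(q)`. -/

set_option autoImplicit false
set_option linter.unusedSectionVars false
set_option linter.unusedVariables false

namespace HY

open Subgroup H9.HC
open H9 (HC bo V3)
open H5 (mem_of_eq)

variable {G G' F : Type*} [Group G] [Group G'] [Field F]

/-- the first relations -/
structure D0 (ι : HC F →* G) (w : G) : Prop where
  r1 : w * w = 1
  r2 : ∀ v, w * ι (m0 v) * w = ι (m0 (sw v))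
  r6 : w * ι tt * w = ι tt

namespace D0

variable {ι : HC F →* G} {w : G} (d : D0 ι w)
include d

theorem inv : w⁻¹ = w := inv_eq_of_mul_eq_one_left d.r1

theorem ww (x : G) : w * (w * x) = x := by rw [← mul_assoc, d.r1, one_mul]

theorem wmul (x y : G) : w * x * w * (w * y * w) = w * (x * y) * w := by
  simp only [mul_assoc, d.ww]

theorem winv (x : G) : (w * x * w)⁻¹ = w * x⁻¹ * w := by
  rw [mul_inv_rev, mul_inv_rev, d.inv, mul_assoc]

theorem www (x : G) : w * (w * x * w) * w = x := by simp only [mul_assoc, d.ww, d.r1, mul_one]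

theorem wm (v : V3 F) : w * ι (m0 v) = ι (m0 (sw v)) * w := by
  rw [← d.r2, mul_assoc, d.r1, mul_one]

theorem wz (z : F) : w * ι (zz z) * w = ι (m0 (z, 0, 0)) := by rw [← m0_zz, d.r2]; rfl

theorem wx (z : F) : w * ι (m0 (z, 0, 0)) * w = ι (zz z) := by rw [← m0_zz, d.r2]; rfl

theorem iZ (hι : Function.Injective ι) (z : F) :
    w * ι ii * w * ι (zz 1) * (w * ι ii * w)⁻¹ ≠ ι (zz z) := fun e => by
  refine one_ne_zero (ii_uu (x := 1) (y := z) (hι ?_))
  rw [← d.wz z, ← e, map_mul, map_mul, map_inv, ← d.wz, mul_inv_rev, mul_inv_rev, d.inv]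
  simp only [mul_assoc, d.ww, d.r1, mul_one]

end D0

/-- the relations -/
structure Dt (ι : HC F →* G) (w : G) : Prop extends D0 ι w where
  r3 : ∀ a : Fˣ, w * ι (qq 0 (a : F) 0) * w =
    ι (qq 0 ((a⁻¹ : Fˣ) : F) 0 * hh a) * (w * ι (hh (-a⁻¹)) * w) * w * ι (qq 0 ((a⁻¹ : Fˣ) : F) 0)
  r4 : ∀ l ∈ L0 F, ι l * (w * ι ii * w) = w * ι ii * w * ι l
  r5 : ∀ a g, w * ι (hh a) * w * ι g = ι (dl a g) * (w * ι (hh a) * w)

namespace Dt

variable {ι : HC F →* G} {w : G} (d : Dt ι w)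
include d

/-- the first maximal parabolic subgroup -/
def P : Subgroup G where
  carrier := {g | ∃ c a, g = ι c * (w * ι (hh a) * w)}
  one_mem' := ⟨1, 1, by simp [d.r1]⟩
  mul_mem' := by
    rintro _ _ ⟨c, a, rfl⟩ ⟨c', a', rfl⟩
    exact ⟨c * dl a c', a * a', by
      rw [mul_assoc, ← mul_assoc _ (ι c'), d.r5, mul_assoc, d.wmul, map_mul, map_mul, map_mul]
      simp only [mul_assoc]⟩
  inv_mem' := by
    rintro _ ⟨c, a, rfl⟩
    refine ⟨dl a⁻¹ c⁻¹, a⁻¹, ?_⟩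
    rw [← d.r5, map_inv, map_inv, map_inv, mul_inv_rev, mul_inv_rev, mul_inv_rev, d.inv, ← mul_assoc]

theorem cP (c : HC F) : ι c ∈ d.P := ⟨c, 1, by simp [d.r1]⟩
theorem hP (a : Fˣ) : w * ι (hh a) * w ∈ d.P := ⟨1, a, by simp⟩

/-- the union of the three double cosets -/
def X (g : G) : Prop :=
  g ∈ d.P ∨ ∃ p ∈ d.P, ∃ p' ∈ d.P, g = p * w * p' ∨ g = p * (w * ι ii * w) * p'

variable {d} in
theorem X.mul {g p p' : G} (h : d.X g) (hp : p ∈ d.P) (hp' : p' ∈ d.P) : d.X (p * g * p') := by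
  rcases h with h | ⟨a, ha, b, hb, h⟩
  · exact Or.inl (mul_mem (mul_mem hp h) hp')
  · exact Or.inr ⟨_, mul_mem hp ha, _, mul_mem hb hp', h.imp (fun e => by rw [e]; group)
      fun e => by rw [e]; group⟩

theorem X_of {g g' p p' : G} (h : d.X g) (hp : p ∈ d.P) (hp' : p' ∈ d.P) (e : g' = p * g * p') :
    d.X g' := e ▸ h.mul hp hp'

theorem Xw : d.X w := Or.inr ⟨1, one_mem _, 1, one_mem _, Or.inl (by simp)⟩
theorem Xi : d.X (w * ι ii * w) := Or.inr ⟨1, one_mem _, 1, one_mem _, Or.inr (by simp)⟩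

theorem xiw (s : F) : d.X (w * ι (qq 0 s 0) * ι ii * w) :=
  d.X_of d.Xi (one_mem _) (d.cP (m0 (sw (0, -s, 0)))) (by
    rw [mul_assoc w, ← map_mul, xa_ii, map_mul, ← d.r2]; simp only [mul_assoc, d.ww, one_mul])

theorem wxw (s : F) : d.X (w * ι (qq 0 s 0) * w) := by
  by_cases hs : s = 0
  · rw [hs, show qq (0 : F) 0 0 = 1 from rfl, map_one, mul_one, d.r1]; exact Or.inl (one_mem _)
  · exact d.X_of d.Xw (mul_mem (d.cP _) (d.hP _)) (d.cP _) (d.r3 (Units.mk0 s hs))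

omit d in
theorem hh_ii (a : Fˣ) : hh a * ii = ii * hh a⁻¹ := by ext <;> simp [ii, hh_def]

theorem wcw (c : HC F) : d.X (w * ι c * w) := by
  have e0 : ∀ (v : V3 F) (s x : F), ∃ v', m0 v * qq 0 s 0 * m0 (x, 0, 0) = m0 v' * qq 0 s 0 :=
    fun v s x => ⟨v + bo 1 s (x, 0, 0), by rw [m0_add, ← xa_m0]; group⟩
  rw [split c]
  rcases bruhat (pl_mem c) with ⟨a, x, e⟩ | ⟨x, a, y, e⟩ <;> rw [e] <;>
    obtain ⟨v, e1⟩ := e0 (0, -c.u, c.z - c.u * c.v) c.v x
  · refine d.X_of (d.wxw c.v) (d.cP (m0 (sw v))) (d.hP a) ?_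
    rw [← mul_assoc _ _ (hh a), e1, map_mul, map_mul, ← d.r2]
    simp only [mul_assoc, d.ww]
  · refine d.X_of (d.xiw c.v) (d.cP (m0 (sw v))) (mul_mem (d.hP a⁻¹) (d.cP (m0 (sw (y, 0, 0))))) ?_
    rw [mul_assoc (m0 _) (hh a), hh_ii, show ∀ a b c e f g : HC F, a * b * (c * (e * f) * g) =
      a * b * c * e * f * g from fun _ _ _ _ _ _ => by group, e1, ← d.r2, ← d.r2]
    simp only [map_mul, mul_assoc, d.ww]

theorem wci (c : HC F) : d.X (w * ι c * (w * ι ii * w)) := by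
  rw [split c, map_mul, map_mul, ← mul_assoc w _ (ι (pl c)), ← mul_assoc w (ι (m0 _)), d.wm,
    mul_assoc _ (ι (pl c)), d.r4 _ (pl_mem c)]
  refine d.X_of (g := w * ι (qq 0 c.v 0) * (w * ι ii * w)) ?_
    (d.cP (m0 (sw (0, -c.u, c.z - c.u * c.v)))) (d.cP (pl c)) (by simp only [mul_assoc])
  by_cases hs : c.v = 0
  · rw [hs, show qq (0 : F) 0 0 = 1 from rfl, map_one, mul_one]
    exact d.X_of d.Xw (d.cP ii) (one_mem _) (by simp only [mul_assoc, d.ww, mul_one])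
  · refine d.X_of (d.xiw ((Units.mk0 _ hs)⁻¹ : Fˣ)) (mul_mem (d.cP (qq 0 (((Units.mk0 _ hs)⁻¹ : Fˣ) : F) 0 *
      hh (Units.mk0 _ hs))) (d.hP (-(Units.mk0 _ hs)⁻¹))) (one_mem _) ?_
    calc _ = w * ι (qq 0 ((Units.mk0 _ hs : Fˣ) : F) 0) * w * ι ii * w := by
          simp only [mul_assoc, Units.val_mk0]
      _ = _ := by rw [d.r3]; simp only [mul_assoc, mul_one]

theorem wX {g : G} (h : d.X g) : d.X (w * g) := by
  rcases h with h | ⟨_, ⟨c, a, rfl⟩, p, hp, rfl | rfl⟩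
  · exact d.X_of d.Xw (one_mem _) h (by rw [one_mul])
  · exact d.X_of (d.wcw c) (one_mem _) (mul_mem (d.cP (hh a)) hp)
      (by simp only [mul_assoc, d.ww, one_mul])
  · refine d.X_of (d.wci c) (one_mem _) (mul_mem (d.hP a⁻¹) hp) ?_
    calc _ = w * ι c * (w * ι (hh a * ii) * w) * p := by simp only [map_mul, mul_assoc, d.ww]
      _ = _ := by rw [hh_ii]; simp only [map_mul, mul_assoc, d.ww, one_mul]

theorem cover {g : G} (hg : g ∈ ι.range ⊔ zpowers w) : d.X g := by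
  rw [zpowers_eq_closure, ← Subgroup.closure_eq ι.range, ← Subgroup.closure_union] at hg
  induction hg using closure_induction_left with
  | one => exact Or.inl (one_mem _)
  | mul_left x hx y _ ih =>
    rcases hx with ⟨c, rfl⟩ | rfl
    · simpa using ih.mul (d.cP c) (one_mem _)
    · exact d.wX ih
  | inv_mul_cancel x hx y _ ih =>
    rcases hx with ⟨c, rfl⟩ | rfl
    · simpa using ih.mul (d.cP c⁻¹) (one_mem _)
    · rw [d.inv]; exact d.wX ih

theorem map (f : G →* G') : Dt (f.comp ι) (f w) :=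
  ⟨⟨by simpa using congrArg f d.r1, fun v => by simpa using congrArg f (d.r2 v),
    by simpa using congrArg f d.r6⟩, fun v => by simpa using congrArg f (d.r3 v),
    fun l hl => by simpa using congrArg f (d.r4 l hl),
    fun a g => by simpa using congrArg f (d.r5 a g)⟩

theorem prod {ι' : HC F →* G'} {w' : G'} (d' : Dt ι' w') : Dt (ι.prod ι') (w, w') :=
  ⟨⟨Prod.ext d.r1 d'.r1, fun v => Prod.ext (d.r2 v) (d'.r2 v), Prod.ext d.r6 d'.r6⟩,
    fun v => Prod.ext (d.r3 v) (d'.r3 v), fun l hl => Prod.ext (d.r4 l hl) (d'.r4 l hl),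
    fun a g => Prod.ext (d.r5 a g) (d'.r5 a g)⟩

theorem PZ {p : G} (hp : p ∈ d.P) : ∃ a : Fˣ, p * ι (zz 1) * p⁻¹ = ι (zz (a ^ 2)) := by
  obtain ⟨c, a, rfl⟩ := hp
  refine ⟨a, ?_⟩
  rw [mul_inv_eq_iff_eq_mul, mul_assoc, d.r5, dl_zz, mul_one, ← mul_assoc, ← map_mul, zz_comm,
    map_mul, mul_assoc]

theorem wP (hι : Function.Injective ι) : w ∉ d.P := fun h => by
  obtain ⟨a, e⟩ := d.PZ h
  rw [d.inv, d.wz] at e
  exact one_ne_zero (m0_mem_Z.1 ⟨_, (hι e).symm⟩).1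

theorem inj_on (f : G →* G') (hf : Function.Injective (f.comp ι)) {g : G}
    (hg : g ∈ ι.range ⊔ zpowers w) (e : f g = 1) : g = 1 := by
  have k : ∀ p ∈ d.P, f p ∈ (d.map f).P := by
    rintro _ ⟨c, a, rfl⟩; exact ⟨c, a, by simp⟩
  rcases d.cover hg with ⟨c, a, rfl⟩ | ⟨p, hp, p', hp', rfl | rfl⟩
  · have h1 := (d.map f).r5 a (zz 1)
    have h2 : f w * (f.comp ι) (hh a) * f w = (f.comp ι) c⁻¹ := by
      rw [map_inv]; exact eq_inv_of_mul_eq_one_right (by simpa using e)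
    rw [h2, ← map_mul, zz_comm, map_mul, mul_left_inj, dl_zz, mul_one] at h1
    rcases sq_eq_one_iff.1 (zz_inj (hf h1)).symm with h | h
    · rw [Units.val_eq_one.1 h] at e ⊢
      rw [map_one, map_one, mul_one, d.r1, mul_one] at e ⊢
      rw [hf (a₁ := c) (e.trans (map_one _).symm), map_one]
    · rw [show a = -1 from Units.ext h] at e ⊢
      rw [hh_neg, d.r6, ← map_mul] at e ⊢
      rw [hf (a₁ := c * tt) (e.trans (map_one _).symm), map_one]
  · refine absurd (mem_of_eq (mul_mem (inv_mem (k p hp)) (inv_mem (k p' hp'))) ?_)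
      ((d.map f).wP hf)
    rw [map_mul, map_mul] at e
    calc _ = (f p)⁻¹ * (f p * f w * f p') * (f p')⁻¹ := by rw [e, mul_one]
      _ = _ := by group
  · obtain ⟨a, e1⟩ := (d.map f).PZ (mul_mem (inv_mem (k p hp)) (inv_mem (k p' hp')))
    refine absurd (Eq.trans ?_ e1) ((d.map f).iZ hf _)
    simp only [map_mul] at e
    rw [show (f p)⁻¹ * (f p')⁻¹ = f w * (f.comp ι) ii * f w by
      calc _ = (f p)⁻¹ * (f p * (f w * f (ι ii) * f w) * f p') * (f p')⁻¹ := by rw [e, mul_one]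
        _ = _ := by simp [mul_assoc]]

theorem bij (f : G →* G') (h1 : Function.Injective (f.comp ι))
    (h2 : (f.comp ι).range ⊔ zpowers (f w) = ⊤) :
    Function.Bijective (f.comp (ι.range ⊔ zpowers w).subtype) :=
  ⟨(injective_iff_map_eq_one _).2 fun x e => Subtype.ext (d.inj_on f h1 x.2 e), by
    rw [← MonoidHom.range_eq_top, MonoidHom.range_comp, range_subtype, Subgroup.map_sup,
      MonoidHom.map_zpowers, ← MonoidHom.range_comp, h2]⟩

theorem iso {ι' : HC F →* G'} {w' : G'} (d' : Dt ι' w') (h : Function.Injective ι)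
    (h' : Function.Injective ι') (g : ι.range ⊔ zpowers w = ⊤) (g' : ι'.range ⊔ zpowers w' = ⊤) :
    Nonempty (G ≃* G') :=
  ⟨(MulEquiv.ofBijective _ ((d.prod d').bij (MonoidHom.fst _ _) h g)).symm.trans
    (MulEquiv.ofBijective _ ((d.prod d').bij (MonoidHom.snd _ _) h' g'))⟩

end Dt

end HY
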