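import Cfsg.Agent.HY.F

/-! Construction of the second fundamental reflection. -/

set_option autoImplicit false
set_option linter.unusedSectionVars false
set_option linter.unusedVariables false

namespace HY

open Cfsg FT H4 GW H9.HC
open Subgroup hiding one
open H9 (HC bo V3 GH NZ sym2)
open H5 (mem_of_eq)

variable {G F : Type*} [Group G] [Finite G] [Field F] [Finite F]

/-- two classes of three-central elements -/
structure S2 (ι : HC F →* G) : Prop extends S0 ι where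
  nsq : ∀ r : F, r ^ 2 ≠ -1
  sq : ∀ a : F, a ≠ 0 → (∃ r, a = r ^ 2) ∨ ∃ r, a = -r ^ 2
  card : 4 < Nat.card F
  nt : ∃ z₁ z₂ : F, z₁ ≠ 0 ∧ z₂ ≠ 0 ∧ ∀ g : G, g * ι (zz z₁) * g⁻¹ ≠ ι (zz z₂)

namespace S2

variable {ι : HC F →* G} (s : S2 ι) {g : G}
include s

theorem big : ∃ a : Fˣ, (a : F) ^ 2 ≠ 1 := by
  by_contra! h
  have := Nat.card_le_card_of_surjective (![0, 1, -1] : Fin 3 → F) fun a => by
    by_cases ha : a = 0
    · exact ⟨0, ha.symm⟩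
    · exact (sq_eq_one_iff.1 (h (Units.mk0 a ha))).elim (fun e => ⟨1, e.symm⟩) fun e => ⟨2, e.symm⟩
  have := s.card
  simp at *
  omega

theorem cM (h : ∀ v, g * ι (m0 v) = ι (m0 v) * g) : ∃ v, g = ι (m0 v) := by
  obtain ⟨c, rfl⟩ := s.of_cz (g := g) one_ne_zero (by rw [← m0_zz]; exact h _)
  obtain ⟨v, e⟩ := mem_M0.1 (cen_M0 s.h3 (s.cm.1 (h _)))
  exact ⟨v, by rw [e]⟩

theorem exists_n (hn : ¬ Nor ((M0 F).map ι) ≤ Nor ι.range) :
    ∃ n : G, ∀ v, n * ι (m0 v) * n⁻¹ = ι (m0 (sw v)) := by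
  set M := (M0 F).map ι with hM
  have hmem : ∀ g, g ∈ M ↔ ∃ v, ι (m0 v) = g := fun g =>
    ⟨fun ⟨a, ha, e⟩ => (mem_M0.1 ha).imp fun v hv => by rw [hv, e],
      fun ⟨v, hv⟩ => ⟨_, mem_M0.2 ⟨v, rfl⟩, hv⟩⟩
  let e : V3 F ≃ M := Equiv.ofBijective (fun v => ⟨ι (m0 v), (hmem _).2 ⟨v, rfl⟩⟩)
    ⟨fun a b h => m0_injective (s.inj (congrArg Subtype.val h)),
      fun g => ((hmem _).1 g.2).imp fun v hv => Subtype.ext hv⟩
  let ρ : Nor M →* Equiv.Perm (V3 F) := e.symm.permCongrHom.toMonoidHom.comp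
    ((MulAut.toPerm M).comp M.normalizerMonoidHom)
  have hρ : ∀ (g : Nor M) (v : V3 F), ι (m0 (ρ g v)) = g * ι (m0 v) * (g : G)⁻¹ := by
    intro g v
    have : e (ρ g v) = M.normalizerMonoidHom g (e v) := by simp [ρ]; rfl
    exact congrArg Subtype.val this
  have hρ' : ∀ (g : Nor M) (v w : V3 F), (g : G) * ι (m0 v) * (g : G)⁻¹ = ι (m0 w) → ρ g v = w :=
    fun g v w h => m0_injective (s.inj ((hρ g v).trans h))
  have hB : ∀ g : HC F, g.c = 0 → ι g ∈ Nor M := fun g hg => mnor fun a ha => by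
    obtain ⟨v, rfl⟩ := (hmem a).1 ha
    rw [← map_inv, ← map_mul, ← map_mul, conj_m0 hg]
    exact (hmem _).2 ⟨_, rfl⟩
  have hB' : ∀ (g : HC F) (hg : g.c = 0) (v : V3 F), ρ ⟨ι g, hB g hg⟩ v = bo g.a (g.a * g.v) v :=
    fun g hg v => hρ' _ _ _ (by rw [← conj_m0 hg, map_mul, map_mul, map_inv])
  have hGH : GH ρ.range :=
    { two := two_ne s.h3
      sq := s.sq
      nsq := s.nsq
      add := by
        rintro _ ⟨g, rfl⟩ a b
        apply hρ'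
        rw [m0_add, m0_add, map_mul, map_mul, hρ, hρ, conj_mul]
      exB := fun τ s hτ => ⟨_, ⟨⟨ι ⟨0, τ⁻¹ * s, 0, τ, 0, 0, τ⁻¹, by simp [hτ]⟩, hB _ rfl⟩, rfl⟩,
        fun v => by rw [hB' _ rfl]; simp [hτ]⟩
      fix := by
        rintro _ ⟨⟨g, hg⟩, rfl⟩ z hz h
        have h1 := hρ ⟨g, hg⟩ (0, 0, z)
        rw [h, m0_zz] at h1
        obtain ⟨a, rfl⟩ := s.of_cz hz (mul_inv_eq_iff_eq_mul.1 h1.symm)
        have ha : a.c = 0 := c_eq_zero (w := ρ ⟨_, hg⟩ (1, 0, 0)) (s.inj (by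
          rw [hρ, map_mul, map_mul, map_inv]))
        have hd := a.det
        rw [ha, mul_zero, sub_zero] at hd
        exact ⟨_, _, left_ne_zero_of_mul_eq_one hd, hB' a ha⟩
      nt := by
        obtain ⟨z₁, z₂, h3, h4, h5⟩ := s.nt
        refine ⟨z₁, z₂, h3, h4, ?_⟩
        rintro _ ⟨g, rfl⟩ h
        have h1 := hρ g (0, 0, z₁)
        rw [h, m0_zz, m0_zz] at h1
        exact h5 g h1.symm }
  obtain ⟨n, h1, h2⟩ := SetLike.not_le_iff_exists.1 hn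
  obtain ⟨κ, hκ, w, hw, hwz⟩ := hGH.exists_kappa ⟨_, ⟨⟨n, h1⟩, rfl⟩, fun h => by
    obtain ⟨z, e⟩ := h 1
    have h3 := hρ ⟨n, h1⟩ (0, 0, 1)
    rw [e, m0_zz, m0_zz] at h3
    exact h2 (s.of_zz one_ne_zero h3.symm)⟩
  obtain ⟨a, ha⟩ := s.big
  obtain rfl : κ = 0 := mul_right_cancel₀ (sub_ne_zero.2 ha) (by linear_combination hκ a a.ne_zero)
  obtain ⟨w', hw'⟩ := hGH.exists_swap hw fun z => by simpa using hwz z
  obtain ⟨_, ⟨g, rfl⟩, e1⟩ := hGH.in_all hw' (a := 0) (b := 1) (c := 1) (d := 0) (by simp)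
  exact ⟨g, fun v => by rw [← hρ, e1]; simp [sym2, sw]⟩

theorem exists_w (hn : ¬ Nor ((M0 F).map ι) ≤ Nor ι.range) : ∃ w, D0 ι w := by
  obtain ⟨n, hn⟩ := s.exists_n hn
  have h3 := s.h3
  have t2 : ι tt * ι tt = 1 := by rw [← map_mul, tt_sq, map_one]
  have tm : ∀ x b z : F, ι tt * ι (m0 (x, b, z)) = ι (m0 (x, -b, z)) * ι tt := fun x b z => by
    rw [← map_mul, ← map_mul]; congr 1; ext <;> simp [tt, m0]
  have mm : ∀ a b, ι (m0 a) * ι (m0 b) = ι (m0 (a + b)) := fun a b => by rw [m0_add, map_mul]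
  have hn' : ∀ v, n * ι (m0 v) = ι (m0 (sw v)) * n := fun v => by rw [← hn]; group
  obtain ⟨⟨x, b, z⟩, e⟩ := s.cM (g := n * ι tt * n⁻¹ * ι tt) fun ⟨x, b, z⟩ => by
    calc _ = n * (ι tt * ι (m0 (z, -b, x))) * n⁻¹ * ι tt := by
          rw [mul_assoc, tm, show ((x, -b, z) : V3 F) = sw (z, -b, x) from rfl, ← hn]; group
      _ = _ := by rw [tm, neg_neg, ← mul_assoc, hn']; simp only [mul_assoc, sw]
  have e1 : n * ι tt * n⁻¹ = ι (m0 (x, b, z)) * ι tt := by rw [← e, mul_assoc _ (ι tt) (ι tt), t2, mul_one]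
  have e2 : ι (m0 (x, b, z)) * ι tt * (ι (m0 (x, b, z)) * ι tt) = 1 := by
    rw [← e1, conj_mul, t2]; group
  rw [mul_assoc, ← mul_assoc (ι tt), tm, mul_assoc, t2, mul_one, mm, ← map_one ι,
    show (1 : HC F) = m0 0 by ext <;> simp [m0]] at e2
  have e3 := m0_injective (s.inj e2)
  simp only [Prod.mk_add_mk, Prod.mk_eq_zero] at e3
  obtain rfl : x = 0 := eq_zero_of_neg h3 (by linear_combination e3.1)
  obtain rfl : z = 0 := eq_zero_of_neg h3 (by linear_combination e3.2.2)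
  obtain ⟨u, hu⟩ : ∃ u, u = ι (m0 (0, b, 0)) * n := ⟨_, rfl⟩
  have u1 : ∀ v, u * ι (m0 v) = ι (m0 (sw v)) * u := fun v => by
    rw [hu, mul_assoc, hn', ← mul_assoc, ← mul_assoc, mm, mm, add_comm]
  have u2 : u * ι tt = ι tt * u := by
    rw [hu, ← mul_assoc, tm, mul_assoc, mul_inv_eq_iff_eq_mul.1 e1, ← mul_assoc, ← mul_assoc, mm]
    congr 4
    simp only [Prod.mk_add_mk, add_zero, Prod.mk.injEq, and_true, true_and]
    linear_combination b * h3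
  obtain ⟨⟨x, c, z⟩, e⟩ := s.cM (g := u * u) fun v => by
    rw [mul_assoc, u1, ← mul_assoc, u1, mul_assoc]; rfl
  have e4 := u1 (x, c, z)
  rw [← e, ← mul_assoc, mul_left_inj, e] at e4
  have e5 : ι tt * (u * u) = u * u * ι tt := by rw [← mul_assoc, ← u2, mul_assoc, ← u2, mul_assoc]
  rw [e, tm, mul_left_inj] at e5
  obtain rfl : x = z := congrArg (·.1) (m0_injective (s.inj e4))
  obtain rfl : c = 0 := eq_zero_of_neg h3 (congrArg (·.2.1) (m0_injective (s.inj e5))).symm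
  have r1 : u * ι (m0 (-x, 0, 0)) * (u * ι (m0 (-x, 0, 0))) = 1 := by
    nth_rewrite 1 [u1]
    rw [mul_assoc, ← mul_assoc u, e, mm, mm, ← map_one ι]
    congr 1; ext <;> simp [m0, sw]
  refine ⟨_, r1, fun v => ?_, ?_⟩
  · rw [mul_assoc u, mm, add_comm, ← mm, ← mul_assoc u, u1 v, mul_assoc, mul_assoc,
      ← mul_assoc u, r1, mul_one]
  · have := tm (-x) 0 0
    rw [neg_zero] at this
    rw [mul_assoc u, ← this, ← mul_assoc u, u2, mul_assoc, mul_assoc, ← mul_assoc u, r1, mul_one]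

end S2

/-- the action on `M` -/
def Act (ι : HC F →* G) (g : G) (f : V3 F → V3 F) : Prop := ∀ v, g * ι (m0 v) * g⁻¹ = ι (m0 (f v))

theorem Act.mul {ι : HC F →* G} {g g' : G} {f f' : V3 F → V3 F} (h : Act ι g f) (h' : Act ι g' f') :
    Act ι (g * g') (f ∘ f') := fun v => by rw [Function.comp, ← h, ← h']; group

theorem S2.same {ι : HC F →* G} (s : S2 ι) {g g' : G} {f f' : V3 F → V3 F} (h : Act ι g f)
    (h' : Act ι g' f') (e : ∀ x b z, f (x, b, z) = f' (x, b, z)) : ∃ v, g = g' * ι (m0 v) := by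
  obtain ⟨v, e1⟩ := s.cM (g := g'⁻¹ * g) fun v => by
    calc _ = g'⁻¹ * (g * ι (m0 v) * g⁻¹) * g := by group
      _ = _ := by rw [h, e, ← h']; group
  exact ⟨v, by rw [← e1]; group⟩

theorem act_h (ι : HC F →* G) (a : Fˣ) :
    Act ι (ι (hh a)) fun v => (a ^ 2 * v.1, a * v.2.1, v.2.2) := fun v => by
  rw [← map_inv, ← map_mul, ← map_mul, hh_m0]

theorem act_x (ι : HC F →* G) (a : F) : Act ι (ι (qq 0 a 0)) (bo 1 a) := fun v => by
  rw [← map_inv, ← map_mul, ← map_mul, xa_m0]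

/-- the setting with the reflection -/
structure W0 (ι : HC F →* G) (w : G) : Prop extends S2 ι, D0 ι w

namespace W0

variable {ι : HC F →* G} {w : G} (s : W0 ι w) {g n : G} {l : HC F}
include s

theorem wt : w * ι tt = ι tt * w := by
  nth_rewrite 2 [← s.r6]
  rw [mul_assoc, s.r1, mul_one]

theorem wA (a b : G) : w * (w * a * w * b) * w = a * (w * b * w) := by
  simp only [mul_assoc, s.ww]

theorem wB (a b : G) : w * (a * (w * b * w)) * w = w * a * w * b := by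
  simp only [mul_assoc, s.r1, mul_one]

theorem h2M (a : Fˣ) (v : V3 F) :
    w * ι (hh a) * w * ι (m0 v) * (w * ι (hh a) * w)⁻¹ = ι (dl a (m0 v)) := by
  obtain ⟨x, b, z⟩ := v
  rw [show ((x, b, z) : V3 F) = sw (z, b, x) from rfl, ← s.r2, s.winv, s.wmul, s.wmul, ← map_inv,
    ← map_mul, ← map_mul, hh_m0, s.r2, sw, sw, dl_m0]

theorem h2z (a : Fˣ) (z : F) :
    w * ι (hh a) * w * ι (zz z) * (w * ι (hh a) * w)⁻¹ = ι (zz (a ^ 2 * z)) := by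
  rw [← m0_zz, s.h2M, m0_zz, dl_zz]

theorem h2N (a : Fˣ) : w * ι (hh a) * w ∈ Nor ι.range := s.of_zz one_ne_zero (s.h2z a 1)

theorem wLt (hl : l ∈ L0 F) : w * ι l * w * ι tt = ι tt * (w * ι l * w) := by
  rw [← s.r6, s.wmul, s.wmul, s.cm.2 (L0_tt hl)]

theorem nL (hn : n ∈ Nor ι.range) (h : n * ι tt = ι tt * n) (hl : l ∈ L0 F) {k : ℕ}
    (hk : (k : F) ≠ 0) (e : l ^ k = 1) : ∃ l' ∈ L0 F, n * ι l * n⁻¹ = ι l' := by
  obtain ⟨l', e1⟩ := cmem hn ⟨l, rfl⟩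
  refine ⟨l', mem_L0 s.h3 (s.cm.1 ?_) hk (s.inj ?_), e1.symm⟩
  · rw [e1]
    calc _ = n * ι l * (n⁻¹ * ι tt * n) * n⁻¹ := by group
      _ = _ := by rw [mul_assoc n⁻¹, ← h, inv_mul_cancel_left, mul_assoc n, s.cm.2 (L0_tt hl),
        ← mul_assoc n, h]; group
  · rw [map_pow, e1, conj_pow, ← map_pow, e, map_one]; group

theorem act_w : Act ι w sw := fun v => by rw [s.inv, s.r2]

theorem act_h2 (a : Fˣ) : Act ι (w * ι (hh a) * w) fun v => (v.1, a * v.2.1, a ^ 2 * v.2.2) :=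
  fun v => by rw [s.h2M, dl_m0]

theorem comm_h (a b : Fˣ) : w * ι (hh b) * w * ι (hh a) = ι (hh a) * (w * ι (hh b) * w) := by
  have k : ∀ a b : Fˣ, ∃ x, w * ι (hh b) * w * ι (hh a) =
      ι (hh a) * (w * ι (hh b) * w) * ι (m0 (x, 0, 0)) := fun a b => by
    obtain ⟨l, hl, e⟩ := s.nL (s.h2N b) (s.wLt (hh_mem b)) (hh_mem a) (k := Nat.card Fˣ) (by
      haveI := Fintype.ofFinite F
      rw [Nat.card_units, Nat.cast_pred Nat.card_pos, Nat.card_eq_fintype_card,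
        FiniteField.cast_card_eq_zero]
      simp) (by rw [← map_pow, pow_card_eq_one', map_one])
    obtain ⟨⟨x, c, z⟩, e1⟩ := s.same ((s.act_h2 b).mul (act_h ι a)) ((act_h ι a).mul (s.act_h2 b))
      fun x c z => by simp [mul_left_comm]
    have e2 : (hh a)⁻¹ * l = dl b (m0 (x, c, z)) := s.inj (by
      rw [← s.h2M, map_mul, ← e, e1, map_inv]; group)
    obtain ⟨h1, -, h2⟩ := e2 ▸ mul_mem (inv_mem (hh_mem a)) hl
    simp [dl_def, m0] at h1 h2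
    exact ⟨x, by rw [e1, h1, h2]⟩
  obtain ⟨x, e⟩ := k a b
  obtain ⟨y, e'⟩ := k b a
  have e1 := congrArg (fun g => w * g * w) e
  rw [s.wA, ← s.wmul, s.wB, s.wx, e', mul_assoc _ (ι (m0 _)), eq_comm, mul_eq_left, ← map_mul, ← m0_zz, ← m0_add] at e1
  have e2 := congrArg H9.HC.z (s.inj (e1.trans (map_one ι).symm))
  simp [m0] at e2
  rw [e, e2, m0_zz, zz_zero, map_one, mul_one]

omit s in
theorem genL (h1 : ∀ x, g * ι (m0 (x, 0, 0)) = ι (m0 (x, 0, 0)) * g)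
    (h2 : ∀ a, g * ι (hh a) = ι (hh a) * g) (h3 : g * ι ii = ι ii * g) (hl : l ∈ L0 F) :
    g * ι l = ι l * g := by
  have k : ∀ {a b : HC F}, g * ι a = ι a * g → g * ι b = ι b * g → g * ι (a * b) = ι (a * b) * g :=
    fun e e' => by rw [map_mul, ← mul_assoc, e, mul_assoc, e', mul_assoc]
  rcases bruhat hl with ⟨a, x, rfl⟩ | ⟨x, a, y, rfl⟩
  · exact k (h1 x) (h2 a)
  · exact k (k (k (h1 x) (h2 a)) h3) (h1 y)

theorem eq_i (ht : g * ι tt = ι tt * g) (hu : g * ι uu = ι uu * g)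
    (h : ∀ a, g * ι (hh a) = ι (hh a) * g) (hl : l ∈ L0 F) (e : g * ι ii * g⁻¹ = ι l) :
    g * ι ii = ι ii * g := by
  obtain ⟨a, ha⟩ := s.big
  rw [← mul_inv_eq_iff_eq_mul] at ht hu ⊢
  rw [e, eq_ii s.h3 hl (anti ha (s.inj ?_)) (s.inj ?_)]
  · rw [map_mul, map_mul, map_inv, ← e, ← map_inv hh, ← mul_inv_eq_iff_eq_mul.2 (h a),
      ← mul_inv_eq_iff_eq_mul.2 (h a⁻¹), ← ii_hh, map_mul, map_mul, map_inv]
    group
  · rw [map_pow, map_mul, ← e, ← ht, ← hu, conj_mul, conj_pow, ← map_mul, ← map_pow, uu_ii s.h3]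

theorem h2L (a : Fˣ) (hl : l ∈ L0 F) : w * ι (hh a) * w * ι l = ι l * (w * ι (hh a) * w) := by
  have h1 : ∀ x, w * ι (hh a) * w * ι (m0 (x, 0, 0)) = ι (m0 (x, 0, 0)) * (w * ι (hh a) * w) :=
    fun x => by rw [← mul_inv_eq_iff_eq_mul, s.h2M, dl_eq _ (mx_mem x)]
  obtain ⟨l', h2, e⟩ := s.nL (s.h2N a) (s.wLt (hh_mem a)) ii_mem (k := 4) (fun e => one_ne_zero (α := F)
    (by linear_combination e - s.h3)) (by rw [pow_succ, pow_three', ii_sq, mul_assoc, ii_sq, tt_sq])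
  exact genL h1 (fun b => s.comm_h b a)
    (s.eq_i (s.wLt (hh_mem a)) (h1 1) (fun b => s.comm_h b a) h2 e) hl

theorem r5 (a : Fˣ) (c : HC F) : w * ι (hh a) * w * ι c = ι (dl a c) * (w * ι (hh a) * w) := by
  have k : ∀ {g : G} {b c : HC F}, g * ι b = ι (dl a b) * g → g * ι c = ι (dl a c) * g →
      g * ι (b * c) = ι (dl a (b * c)) * g := fun e e' => by
    rw [map_mul, ← mul_assoc, e, mul_assoc, e', map_mul, map_mul, mul_assoc]
  have k1 := fun v => mul_inv_eq_iff_eq_mul.1 (s.h2M a v)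
  have k2 : ∀ l ∈ L0 F, w * ι (hh a) * w * ι l = ι (dl a l) * (w * ι (hh a) * w) := fun l hl => by
    rw [dl_eq _ hl, s.h2L a hl]
  rw [split c, ← mul_inv_eq_iff_eq_mul.2 (xa_ii c.v).symm]
  exact k (k (k1 _) (k (k (k2 _ ii_mem) (k1 _)) (k2 _ (inv_mem ii_mem)))) (k2 _ (pl_mem c))

theorem ncz (g : G) : g * ι (zz 1) * g⁻¹ ≠ (ι (zz 1))⁻¹ := fun e => by
  have k : ∀ z : F, z ≠ 0 → IsConj (ι (zz 1)) (ι (zz z)) := fun z hz => by
    rcases s.sq z hz with ⟨r, rfl⟩ | ⟨r, rfl⟩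
    · exact isConj_iff.2 ⟨_, (s.h2z (Units.mk0 r (by simpa using hz)) 1).trans (by simp)⟩
    · rw [← map_inv, ← zz_neg] at e
      exact (isConj_iff.2 ⟨g, e⟩).trans (isConj_iff.2
        ⟨_, (s.h2z (Units.mk0 r (by simpa using hz)) (-1)).trans (by simp)⟩)
  obtain ⟨a, b, h1, h2, h⟩ := s.nt
  obtain ⟨c, e⟩ := isConj_iff.1 ((k a h1).symm.trans (k b h2))
  exact h c e

theorem NP (hn : n ∈ Nor ι.range) : ∃ c a, n = ι c * (w * ι (hh a) * w) := by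
  obtain ⟨z, e⟩ := s.nZ hn 1
  have hz : z ≠ 0 := fun h => s.z1 (by rwa [h, zz_zero, map_one, conj_eq_one_iff] at e)
  have k : ∀ r : F, r ≠ 0 → ∃ a : Fˣ, (a : F) = r := fun r h => ⟨Units.mk0 r h, rfl⟩
  rcases s.sq z hz with ⟨r, rfl⟩ | ⟨r, rfl⟩ <;> obtain ⟨a, rfl⟩ := k r (by simpa using hz) <;>
    have e1 := s.h2z a 1 <;> rw [mul_one] at e1
  · obtain ⟨c, hc⟩ := cmem (s.h2N a) (s.of_cz one_ne_zero (g := (w * ι (hh a) * w)⁻¹ * n) (by
      rw [mul_assoc, mul_inv_eq_iff_eq_mul.1 e, ← e1]; group))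
    exact ⟨c, a, by rw [hc]; group⟩
  · refine absurd ?_ (s.ncz ((w * ι (hh a) * w)⁻¹ * n))
    calc _ = (w * ι (hh a) * w)⁻¹ * (n * ι (zz 1) * n⁻¹) * (w * ι (hh a) * w) := by group
      _ = _ := by rw [e, zz_neg, map_inv, ← e1]; group

/-- the second `SL₂` -/
def L2 (ι : HC F →* G) (w : G) : Subgroup G := conjS w ((L0 F).map ι)

theorem mem_L2 : g ∈ L2 ι w ↔ ∃ l ∈ L0 F, w * ι l * w = g :=
  ⟨fun ⟨_, ⟨l, hl, rfl⟩, e⟩ => ⟨l, hl, by rw [← e]; simp [s.inv]⟩,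
    fun ⟨l, hl, e⟩ => ⟨_, ⟨l, hl, rfl⟩, by rw [← e]; simp [s.inv]⟩⟩

theorem Ct (hg : g ∈ ι.range) (h : g * ι tt = ι tt * g) : ∃ z, ∃ l ∈ L0 F, g = ι (zz z) * ι l := by
  obtain ⟨c, rfl⟩ := hg
  exact ⟨_, _, pl_mem c, by rw [← map_mul, ← tt_split s.h3 (s.cm.1 h)]⟩

theorem cenR {R Y : Subgroup G} (tR : ι tt ∈ R) (YR : Y ≤ R) (YC : Y ≤ Cen R)
    (hY : ∀ l ∈ L0 F, ι l ∈ Cen R → ι l ∈ Y) (Y3 : ∀ y ∈ Y, y ^ 3 = 1 → y = 1)
    (hL : L2 ι w ≤ Cen R) (hg : g ∈ Cen R) : ∃ y ∈ Y, ∃ l ∈ L0 F, g = y * (w * ι l * w) := by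
  have ZL : (Z0 F).map ι ≤ L2 ι w := by
    rintro _ ⟨_, ⟨z, rfl⟩, rfl⟩
    exact s.mem_L2.2 ⟨_, mx_mem z, s.wx z⟩
  have ZM : (Z0 F).map ι ≤ (M0 F).map ι := map_mono Z0_le_M0
  have hL' := fun l hl => s.mem_L2.2 ⟨l, hl, rfl⟩
  have k : ∀ g ∈ ι.range, g ∈ Cen R → ∃ z ∈ (Z0 F).map ι, ∃ y ∈ Y, g = z * y := fun g h1 h2 => by
    obtain ⟨z, l, hl, rfl⟩ := s.Ct h1 (GW.cen.1 h2 _ tR)
    have h3 := s.mm.2 (zz_mem z)
    exact ⟨_, h3, _, hY l hl (mem_of_eq (mul_mem (inv_mem (hL (ZL h3))) h2) (by group)), rfl⟩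
  have cY : Cen R ≤ Cen Y := centralizer_le YR
  obtain ⟨y, hy, _, h1, rfl⟩ := (H5.mem_sup_left_iff (cnor (hL.trans cY))).1 (L4 (L := Y ⊔ L2 ι w)
    YC cY Y3 (ZL.trans hL) (fun a ha b hb => s.commM (ZM ha) (ZM hb)) (fun a ha => s.cubeM (ZM ha))
    (by
      rintro _ ⟨_, ⟨z, rfl⟩, rfl⟩ z1 g hg e
      exact k g (s.of_cz (fun h => z1 (by rw [h, zz_zero, map_one])) e) hg) (s.mm.2 (zz_mem 1))
    (by
      rintro _ ⟨_, ⟨z, rfl⟩, rfl⟩ z1
      have hz : z ≠ 0 := fun h => z1 (by rw [h, zz_zero, map_one])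
      rcases s.sq z hz with ⟨r, rfl⟩ | ⟨r, rfl⟩ <;>
        have e1 := s.h2z (Units.mk0 r (by simpa using hz)) 1 <;> rw [mul_one, Units.val_mk0] at e1
      · exact ⟨_, hL (hL' _ (hh_mem _)), Or.inl e1⟩
      · exact ⟨_, hL (hL' _ (hh_mem _)), Or.inr (by rw [e1, zz_neg, map_inv, inv_inv])⟩)
    s.ncz (s.card.trans_le (Nat.card_le_card_of_injective
      (fun z => (⟨_, s.mm.2 (zz_mem z)⟩ : (Z0 F).map ι))
      fun a b e => zz_inj (s.inj (congrArg Subtype.val e))))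
    (fun n h1 h2 => by
      obtain ⟨_, ⟨z, rfl⟩, e⟩ := cmem h2 (s.mm.2 (zz_mem 1))
      obtain ⟨c, a, rfl⟩ := s.NP (s.of_zz one_ne_zero e.symm)
      have h3 := hL' _ (hh_mem a)
      obtain ⟨z, hz, y, hy, e⟩ := k _ ⟨c, rfl⟩ (mem_of_eq (mul_mem h1 (inv_mem (hL h3))) (by group))
      rw [e]
      exact mul_mem (mul_mem (mem_sup_right (ZL hz)) (mem_sup_left hy)) (mem_sup_right h3))
    le_sup_left ⟨_, mem_sup_right (hL' _ ii_mem), hL (hL' _ ii_mem), fun h => by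
      obtain ⟨_, ⟨z, rfl⟩, e⟩ := cmem h (s.mm.2 (zz_mem 1))
      exact s.iZ s.inj z e.symm⟩ hg)
  obtain ⟨l, hl, rfl⟩ := s.mem_L2.1 h1
  exact ⟨y, hy, l, hl, rfl⟩

theorem swap {x y : G} (h : w * x * w * y = y * (w * x * w)) : w * y * w * x = x * (w * y * w) := by
  have := congrArg (fun g => w * g * w) h
  rw [s.wA, s.wB] at this
  exact this.symm

theorem ii_comm : w * ι ii * w * ι ii = ι ii * (w * ι ii * w) := by
  obtain ⟨a0, h0⟩ := s.big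
  have c1 : L2 ι w ≤ Cen (ι.comp hh).range := fun g hg => by
    obtain ⟨l, hl, rfl⟩ := s.mem_L2.1 hg
    exact GW.cen.2 (by rintro _ ⟨a, rfl⟩; exact s.swap (s.h2L a hl))
  obtain ⟨_, ⟨b, rfl⟩, l, hl, e⟩ := s.cenR (R := (ι.comp hh).range) (Y := (ι.comp hh).range)
    ⟨-1, congrArg ι hh_neg⟩ le_rfl (by
      rintro _ ⟨a, rfl⟩
      exact GW.cen.2 (by rintro _ ⟨b, rfl⟩; rw [← map_mul, mul_comm, map_mul]))
    (fun l hl h => by
      obtain ⟨b, rfl⟩ := cen_hh hl h0 (s.cm.1 (GW.cen.1 h _ ⟨a0, rfl⟩))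
      exact ⟨b, rfl⟩) (by
      rintro _ ⟨a, rfl⟩ e
      have := congrArg H9.HC.a (s.inj (e.trans (map_one ι).symm |> ((map_pow ι _ 3).trans ·)))
      simp only [pow_three', hh_def, mul_a, mul_b, mul_zero, add_zero, one_a] at this
      rw [show a = 1 from Units.ext (sub_eq_zero.1 (pow_eq_zero_iff (n := 3) (by norm_num) |>.1
        (by rw [Units.val_one]; linear_combination this + ((a : F) - a ^ 2) * s.h3))), map_one]) c1
    (cmem (mcen (mnor (g := ι ii) (by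
      rintro _ ⟨a, rfl⟩
      exact ⟨a⁻¹, by simp only [MonoidHom.comp_apply]; rw [← ii_hh, map_mul, map_mul, map_inv ι]⟩)))
      (c1 (s.mem_L2.2 ⟨_, ii_mem, rfl⟩)))
  have e1 : w * ι ii * w * ι ii * (w * ι ii * w)⁻¹ = w * ι (hh b) * w * ι l := by
    have := congrArg (fun g => w * g * w) e
    simp only [MonoidHom.comp_apply] at this
    rw [s.winv, ← s.wB (ι (hh b)), ← this]
    simp only [mul_assoc, s.ww]
  have c2 : ∀ a, w * ι ii * w * ι (hh a) = ι (hh a) * (w * ι ii * w) := fun a =>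
    s.swap (s.h2L a ii_mem)
  have c3 := s.wLt ii_mem
  have e2 : l * l = tt := anti_sq hl (anti h0 (s.inj (by
    have e3 : w * ι (hh b) * w * ι l * ι (hh a0) * (w * ι (hh b) * w * ι l)⁻¹ = ι (hh a0⁻¹) := by
      rw [← e1, ← mul_inv_eq_iff_eq_mul.2 (c2 a0), ← mul_inv_eq_iff_eq_mul.2 (c2 a0⁻¹), ← ii_hh,
        map_mul, map_mul, map_inv]
      group
    rw [← map_inv hh, map_mul, map_mul, map_inv ι]
    calc _ = (w * ι (hh b) * w)⁻¹ * ι (hh a0⁻¹) * (w * ι (hh b) * w) := by rw [← e3]; group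
      _ = _ := by rw [mul_assoc, ← s.comm_h]; group)))
  have e3 : w * ι (hh b) * w * ι l * (w * ι (hh b) * w * ι l) = ι tt := by
    rw [← e1, conj_mul, ← map_mul, ii_sq, c3, mul_inv_cancel_right]
  rw [mul_assoc, ← mul_assoc (ι l), ← s.h2L b hl, ← mul_assoc, ← mul_assoc, mul_assoc _ (ι l),
    ← map_mul, e2, mul_eq_right, s.wmul, ← map_mul] at e3
  have e4 : hh b * hh b = 1 := s.inj (by rw [← s.www (ι _), e3, mul_one, s.r1, map_one])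
  have e5 : ∃ l' ∈ L0 F, w * ι (hh b) * w = ι l' := by
    rcases sq_one s.h3 (hh_mem b) e4 with h | h <;> rw [h]
    · exact ⟨1, one_mem _, by rw [map_one, mul_one, s.r1]⟩
    · exact ⟨_, tt_mem, s.r6⟩
  obtain ⟨l', h1, e5⟩ := e5
  exact s.eq_i c3 (s.swap (by rw [uu, s.wx]; exact (s.cz ⟨_, rfl⟩ 1).symm)) c2 (mul_mem h1 hl)
    (by rw [e1, e5, map_mul])

theorem LL {l' : HC F} (hl : l ∈ L0 F) (hl' : l' ∈ L0 F) :
    w * ι l' * w * ι l = ι l * (w * ι l' * w) :=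
  s.swap (genL (fun x => s.swap (by rw [s.wx]; exact (s.cz ⟨_, rfl⟩ x).symm))
    (fun a => s.swap (s.h2L a hl)) (s.swap (genL (fun x => s.swap (by
      rw [s.wx]; exact (s.cz ⟨_, rfl⟩ x).symm)) (fun a => s.swap (s.h2L a ii_mem)) s.ii_comm hl)) hl')

theorem r3 (a : Fˣ) : w * ι (qq 0 (a : F) 0) * w = ι (qq 0 ((a⁻¹ : Fˣ) : F) 0 * hh a) *
    (w * ι (hh (-a⁻¹)) * w) * w * ι (qq 0 ((a⁻¹ : Fˣ) : F) 0) := by
  obtain ⟨b, hb⟩ := s.big
  obtain ⟨⟨x, c, z⟩, e⟩ := s.same ((s.act_w.mul (act_x ι a)).mul s.act_w)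
    (((((act_x ι (a⁻¹ : Fˣ)).mul (act_h ι a)).mul (s.act_h2 (-a⁻¹))).mul s.act_w).mul
      (act_x ι (a⁻¹ : Fˣ))) fun x c z => by
    simp only [Function.comp, sw, bo, Units.val_neg, Units.val_inv_eq_inv_val, Prod.mk.injEq]
    refine ⟨?_, ?_, ?_⟩ <;> field_simp <;> ring
  have k1 : w ∈ Cen1 (ι (hh b) * (w * ι (hh b) * w)) := c1.2 (by
    nth_rewrite 2 [← s.comm_h]; simp only [mul_assoc, s.ww, s.r1, mul_one])
  have k2 : ∀ y, ι (qq 0 y 0) ∈ Cen1 (ι (hh b) * (w * ι (hh b) * w)) := fun y => c1.2 (by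
    rw [mul_assoc (ι (hh b)), s.r5, dl_xa, ← mul_assoc, ← mul_assoc (ι (hh b)), ← map_mul, ← map_mul,
      mul_inv_eq_iff_eq_mul.1 (hh_xa b _), Units.inv_mul_cancel_left])
  have k3 : ∀ c, ι (hh c) ∈ Cen1 (ι (hh b) * (w * ι (hh b) * w)) := fun c => c1.2 (by
    rw [mul_assoc (ι (hh b)), s.comm_h, ← mul_assoc, ← mul_assoc (ι (hh b)), ← map_mul, ← map_mul,
      ← map_mul, mul_comm c, map_mul hh])
  have k4 := c1'.1 (c1s.1 (mem_of_eq (mul_mem (inv_mem (mul_mem (mul_mem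
    (mul_mem (mul_mem (k2 (a⁻¹ : Fˣ)) (k3 a)) (mul_mem (mul_mem k1 (k3 (-a⁻¹))) k1)) k1)
    (k2 (a⁻¹ : Fˣ)))) (mul_mem (mul_mem k1 (k2 a)) k1)) (inv_mul_eq_of_eq_mul e)))
  rw [((act_h ι b).mul (s.act_h2 b)) _] at k4
  have k5 := m0_injective (s.inj k4)
  simp only [Function.comp, Prod.mk.injEq] at k5
  obtain rfl : x = 0 := mul_left_cancel₀ (sub_ne_zero.2 hb) (by linear_combination k5.1)
  obtain rfl : c = 0 := mul_left_cancel₀ (sub_ne_zero.2 hb) (by linear_combination k5.2.1)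
  obtain rfl : z = 0 := mul_left_cancel₀ (sub_ne_zero.2 hb) (by linear_combination k5.2.2)
  rw [e, m0_zz, zz_zero, map_one, mul_one, map_mul]

theorem dt : Dt ι w := ⟨s.toD0, s.r3, fun l hl => (s.LL hl ii_mem).symm, s.r5⟩

end W0

end HY
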