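import Cfsg.Agent.HY.G

/-! The centralizer of the central involution. -/

set_option autoImplicit false
set_option linter.unusedSectionVars false
set_option linter.unusedVariables false

namespace HY

open Cfsg FT H4 GW H9.HC
open Subgroup hiding one
open H9 (HC bo V3)
open H5 (mem_of_eq IsSylowOf)

variable {G F : Type*} [Group G] [Finite G] [Field F] [Finite F]

theorem zp4 {a e : G} (h : a ^ 4 = 1) (he : e ∈ zpowers a) :
    e = 1 ∨ e = a ∨ e = a * a ∨ e = a⁻¹ := by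
  obtain ⟨k, rfl⟩ := mem_zpowers_iff.1 he
  rw [zpow_eq_zpow_emod' k h]
  have h1 : 0 ≤ k % (4 : ℕ) := Int.emod_nonneg _ (by norm_num)
  have h2 : k % (4 : ℕ) < 4 := Int.emod_lt_of_pos _ (by norm_num)
  generalize k % (4 : ℕ) = r at h1 h2
  interval_cases r
  · simp
  · simp
  · exact Or.inr (Or.inr (Or.inl (zpow_two a)))
  · refine Or.inr (Or.inr (Or.inr (eq_inv_of_mul_eq_one_left ?_)))
    rw [← h]; group

/-- the second embedding -/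
def rh (ι : HC F →* G) (w : G) : HC F →* G := (MulAut.conj w).toMonoidHom.comp ι
/-- the central product of the two `SL₂` -/
def I1 (ι : HC F →* G) (w : G) : Subgroup G := (L0 F).map ι ⊔ W0.L2 ι w
/-- the centralizer of the involution -/
def K1 (ι : HC F →* G) (w : G) : Subgroup G := I1 ι w ⊔ zpowers w

theorem ii4 : (ii : HC F) ^ 4 = 1 := by rw [pow_succ, pow_three', ii_sq, mul_assoc, ii_sq, tt_sq]
theorem tt_inv : (tt : HC F)⁻¹ = tt := inv_eq_of_mul_eq_one_left tt_sq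
theorem ii_inv : (ii : HC F)⁻¹ = ii * tt := by
  exact inv_eq_of_mul_eq_one_right (by rw [← mul_assoc, ii_sq, tt_sq])

theorem inv_of_sq {a : HC F} (h : a * a = tt) : a⁻¹ = a * tt :=
  inv_eq_of_mul_eq_one_right (by rw [← mul_assoc, h, tt_sq])

theorem iso_i (h3 : (3 : F) = 0) (nsq : ∀ r : F, r ^ 2 ≠ -1) {a : HC F} (ha : a ∈ L0 F)
    (a2 : a * a = tt) (h : a * ii * a⁻¹ = ii⁻¹) (e : a * jj * a⁻¹ * jj⁻¹ ∈ zpowers (ii : HC F)) :
    a * jj⁻¹ ∈ zpowers (ii : HC F) := by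
  have k0 := mul_mem ha (inv_mem jj_mem)
  have k1 : a * jj⁻¹ * ii = ii * (a * jj⁻¹) := by
    calc _ = a * jj⁻¹ * (jj * ii * jj⁻¹)⁻¹ := by rw [jj_ii h3, inv_inv]
      _ = (a * ii * a⁻¹)⁻¹ * (a * jj⁻¹) := by group
      _ = _ := by rw [h, inv_inv]
  have k2 : a * jj * a⁻¹ * jj⁻¹ = a * jj⁻¹ * (a * jj⁻¹) := by
    nth_rewrite 2 [inv_of_sq (jj_sq h3)]
    rw [inv_of_sq a2, L0_tt ha]; group
  have k3 : (tt : HC F) ∈ zpowers ii := ii_sq (F := F) ▸ mul_mem (mem_zpowers _) (mem_zpowers _)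
  rw [k2] at e
  rcases zp4 ii4 e with e | e | e | e
  · rcases sq_one h3 k0 e with e | e <;> rw [e]
    · exact one_mem _
    · exact k3
  · exact absurd (by rw [e, ii_sq]) (no8 h3 nsq (c := a * jj⁻¹))
  · rcases T_sq h3 nsq k0 k1 (e.trans ii_sq) with e | e <;> rw [e]
    · exact mem_zpowers _
    · exact inv_mem (mem_zpowers _)
  · exact absurd (by rw [e, ← mul_inv_rev, ii_sq, tt_inv]) (no8 h3 nsq (c := a * jj⁻¹))

theorem sq_comm {a : HC F} (h : a * ii * a⁻¹ = ii ∨ a * ii * a⁻¹ = ii⁻¹) :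
    a * a * ii = ii * (a * a) := by
  rw [← mul_inv_eq_iff_eq_mul, show a * a * ii * (a * a)⁻¹ = a * (a * ii * a⁻¹) * a⁻¹ by group]
  rcases h with h | h <;> rw [h]
  · exact h
  · rw [← conj_inv, h, inv_inv]

namespace W0

variable {ι : HC F →* G} {w : G} (s : W0 ι w) {g n x : G} {a c l : HC F}
include s

theorem rh_eq (a : HC F) : rh ι w a = w * ι a * w := by simp [rh, s.inv]
theorem w_rh (a : HC F) : w * rh ι w a = ι a * w := by rw [s.rh_eq, ← mul_assoc, ← mul_assoc, s.r1, one_mul]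
theorem w_i (a : HC F) : w * ι a = rh ι w a * w := by rw [s.rh_eq, mul_assoc, s.r1, mul_one]
theorem rt : rh ι w tt = ι tt := by rw [s.rh_eq, s.r6]
theorem rinj : Function.Injective (rh ι w) := (MulAut.conj w).injective.comp s.inj
theorem LR (ha : a ∈ L0 F) (hc : c ∈ L0 F) : rh ι w c * ι a = ι a * rh ι w c := by
  rw [s.rh_eq, s.LL ha hc]
theorem t2 : ι tt * ι tt = 1 := by rw [← map_mul, tt_sq, map_one]
theorem t1 : ι tt ≠ 1 := s.ne1 (tt_ne s.h3)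
theorem i2 : ι ii * ι ii = ι tt := by rw [← map_mul, ii_sq]

theorem mem_I : g ∈ I1 ι w ↔ ∃ a ∈ L0 F, ∃ c ∈ L0 F, ι a * rh ι w c = g := by
  rw [I1, H5.mem_sup_left_iff (cnor fun g hg => by
    obtain ⟨l, hl, rfl⟩ := s.mem_L2.1 hg
    exact GW.cen.2 (by rintro _ ⟨a, ha, rfl⟩; exact s.LL ha hl))]
  constructor
  · rintro ⟨_, ⟨a, ha, rfl⟩, y, hy, rfl⟩
    obtain ⟨l, hl, rfl⟩ := s.mem_L2.1 hy
    exact ⟨a, ha, l, hl, by rw [s.rh_eq]⟩
  · rintro ⟨a, ha, c, hc, rfl⟩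
    exact ⟨_, ⟨a, ha, rfl⟩, _, s.mem_L2.2 ⟨c, hc, (s.rh_eq c).symm⟩, rfl⟩

theorem LI (ha : a ∈ L0 F) : ι a ∈ I1 ι w := s.mem_I.2 ⟨a, ha, 1, one_mem _, by simp⟩
theorem RI (ha : a ∈ L0 F) : rh ι w a ∈ I1 ι w := s.mem_I.2 ⟨1, one_mem _, a, ha, by simp⟩
omit s in
theorem IK : I1 ι w ≤ K1 ι w := le_sup_left
omit s in
theorem wK : w ∈ K1 ι w := mem_sup_right (mem_zpowers w)

theorem wI : w ∈ Nor (I1 ι w) := mnor fun g hg => by
  obtain ⟨a, ha, c, hc, rfl⟩ := s.mem_I.1 hg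
  rw [← mul_assoc, s.w_i, mul_assoc _ w, s.w_rh, ← mul_assoc, mul_inv_cancel_right]
  exact mul_mem (s.RI ha) (s.LI hc)

theorem mem_K (hg : g ∈ K1 ι w) : g ∈ I1 ι w ∨ g * w ∈ I1 ι w := by
  obtain ⟨a, ha, e, he, rfl⟩ := (H5.mem_sup_left_iff (zpowers_le.2 s.wI)).1 hg
  rcases zp2 s.r1 he with rfl | rfl
  · exact Or.inl (by rwa [mul_one])
  · exact Or.inr (by rwa [mul_assoc, s.r1, mul_one])

theorem outK (h : g * w ∈ I1 ι w) : g ∈ K1 ι w :=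
  mem_of_eq (mul_mem (IK h) wK) (by rw [mul_assoc, s.r1, mul_one])

theorem oo (h : g * w ∈ I1 ι w) (h' : x * w ∈ I1 ι w) : g * x ∈ I1 ι w :=
  mem_of_eq (mul_mem h (cmem' s.wI h')) (by rw [mul_assoc _ _ w, mul_assoc x, s.r1]; group)

theorem sqI (hg : g ∈ K1 ι w) : g * g ∈ I1 ι w :=
  (s.mem_K hg).elim (fun h => mul_mem h h) fun h => s.oo h h

theorem L12 (ha : a ∈ L0 F) (hc : c ∈ L0 F) (e : ι a = rh ι w c) :
    (a = 1 ∧ c = 1) ∨ (a = tt ∧ c = tt) := by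
  refine (cenL s.h3 ha (s.cm.1 (e ▸ s.LR ii_mem hc)) (s.cm.1 (e ▸ s.LR jj_mem hc))).imp
    (fun h => ⟨h, s.rinj ?_⟩) fun h => ⟨h, s.rinj ?_⟩
  · rw [← e, h, map_one, map_one]
  · rw [← e, h, s.rt]

theorem L12' {a' c' : HC F} (ha : a ∈ L0 F) (hc : c ∈ L0 F) (ha' : a' ∈ L0 F) (hc' : c' ∈ L0 F)
    (e : ι a * rh ι w c = ι a' * rh ι w c') : (a = a' ∧ c = c') ∨ (a = a' * tt ∧ c = c' * tt) := by
  refine (s.L12 (mul_mem (inv_mem ha') ha) (mul_mem hc' (inv_mem hc)) ?_).imp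
    (fun h => ⟨(inv_mul_eq_one.1 h.1).symm, (mul_inv_eq_one.1 h.2).symm⟩) fun h =>
      ⟨by rw [← h.1]; group, by rw [mul_inv_eq_iff_eq_mul.1 h.2, mul_assoc, L0_tt hc, ← mul_assoc,
        tt_sq, one_mul]⟩
  rw [map_mul, map_mul, map_inv, map_inv, inv_mul_eq_iff_eq_mul, ← mul_assoc, ← e]; group

theorem KC : K1 ι w ≤ Cen1 (ι tt) := sup_le (fun g hg => by
  obtain ⟨a, ha, c, hc, rfl⟩ := s.mem_I.1 hg
  exact mul_mem (c1.2 (s.cm.2 (L0_tt ha))) (c1.2 (s.LR tt_mem hc))) (zpowers_le.2 (c1.2 s.wt))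

theorem mulI {a' c' : HC F} (hc : c ∈ L0 F) (ha' : a' ∈ L0 F) :
    ι a * rh ι w c * (ι a' * rh ι w c') = ι (a * a') * rh ι w (c * c') := by
  rw [map_mul, map_mul, mul_assoc, ← mul_assoc (rh ι w c), s.LR ha' hc]; group

theorem cjI (hg : g ∈ I1 ι w) (hl : l ∈ L0 F) : ∃ l' ∈ L0 F, g * ι l * g⁻¹ = ι l' := by
  obtain ⟨a, ha, c, hc, rfl⟩ := s.mem_I.1 hg
  exact ⟨_, mul_mem (mul_mem ha hl) (inv_mem ha), by
    rw [mul_assoc (ι a), s.LR hl hc, map_mul, map_mul, map_inv]; group⟩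

theorem cjO (hg : g * w ∈ I1 ι w) (hl : l ∈ L0 F) : ∃ l' ∈ L0 F, g * ι l * g⁻¹ = rh ι w l' := by
  obtain ⟨l', h, e⟩ := s.cjI (cmem' s.wI hg) hl
  refine ⟨l', h, ?_⟩
  rw [s.rh_eq, ← e]
  simp only [mul_assoc, mul_inv_rev, s.inv, s.ww, s.r1, mul_one]

theorem iR (hc : c ∈ L0 F) (ha : a ∈ L0 F) (h : a * a = tt) : ι a ≠ rh ι w c := fun e => by
  rcases s.L12 ha hc e with h1 | h1 <;> rw [h1.1] at h
  · exact tt_ne s.h3 (by rw [← h, one_mul])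
  · exact tt_ne s.h3 (h.symm.trans tt_sq)

theorem oform (hg : g * w ∈ I1 ι w) : ∃ a ∈ L0 F, ∃ c ∈ L0 F, g = ι a * rh ι w c * w ∧
    g * g = ι (a * c) * rh ι w (c * a) := by
  obtain ⟨a, ha, c, hc, e⟩ := s.mem_I.1 hg
  have e1 : g = ι a * rh ι w c * w := by rw [e, mul_assoc, s.r1, mul_one]
  refine ⟨a, ha, c, hc, e1, ?_⟩
  rw [← s.mulI hc hc, ← s.LR hc ha, e1, s.rh_eq a]
  simp only [mul_assoc, s.rh_eq c, s.ww, s.r1, mul_one]

theorem tI : ι tt = ι tt * rh ι w 1 := by simp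
theorem oI : (1 : G) = ι 1 * rh ι w 1 := by simp

theorem sqO (hg : g * w ∈ I1 ι w) : g * g ≠ ι tt := fun e => by
  obtain ⟨a, ha, c, hc, -, e1⟩ := s.oform hg
  rcases s.L12' (mul_mem ha hc) (mul_mem hc ha) tt_mem (one_mem _) (e1.symm.trans (e.trans s.tI))
    with h | h
  · exact tt_ne s.h3 (h.1.symm.trans (mul_eq_one_comm.1 h.2))
  · rw [tt_sq, one_mul] at h
    exact tt_ne s.h3 (h.2.symm.trans (mul_eq_one_comm.1 h.1))

theorem root (hg : g ∈ K1 ι w) (h : g * g = ι tt) :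
    ∃ a ∈ L0 F, a * a = tt ∧ (g = ι a ∨ g = rh ι w a) := by
  obtain ⟨a, ha, c, hc, rfl⟩ := s.mem_I.1 ((s.mem_K hg).resolve_right fun e => s.sqO e h)
  have k : ∀ a ∈ L0 F, a * a = tt → a * tt * (a * tt) = tt := fun a ha e => by
    rw [mul_assoc, ← mul_assoc tt, ← L0_tt ha, mul_assoc a tt, tt_sq, mul_one, e]
  rw [s.mulI hc ha] at h
  rcases s.L12' (mul_mem ha ha) (mul_mem hc hc) tt_mem (one_mem _) (h.trans s.tI) with h | h
  · rcases sq_one s.h3 hc h.2 with rfl | rfl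
    · exact ⟨a, ha, h.1, Or.inl (by simp)⟩
    · exact ⟨_, mul_mem ha tt_mem, k a ha h.1, Or.inl (by rw [s.rt, map_mul])⟩
  · rw [tt_sq, one_mul] at h
    rcases sq_one s.h3 ha h.1 with rfl | rfl
    · exact ⟨c, hc, h.2, Or.inr (by simp)⟩
    · exact ⟨_, mul_mem hc tt_mem, k c hc h.2, Or.inr (by rw [← s.LR tt_mem hc, map_mul, s.rt])⟩

theorem root' (hg : g ∈ K1 ι w) (h : g * g = ι tt) : ∃ k ∈ K1 ι w, k * ι ii * k⁻¹ = g := by
  obtain ⟨a, ha, e, e1⟩ := s.root hg h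
  obtain ⟨k, hk, rfl⟩ := conj_ii (two_ne s.h3) s.nsq ha e
  rcases e1 with rfl | rfl
  · exact ⟨_, IK (s.LI hk), by simp⟩
  · exact ⟨w * ι k, mul_mem wK (IK (s.LI hk)), by simp [rh, mul_assoc]⟩

theorem invI (hg : g ∈ I1 ι w) (h : g * g = 1) :
    g = 1 ∨ g = ι tt ∨ ∃ k ∈ I1 ι w, k * (ι ii * rh ι w ii) * k⁻¹ = g := by
  obtain ⟨a, ha, c, hc, rfl⟩ := s.mem_I.1 hg
  rw [s.mulI hc ha] at h
  rcases s.L12' (mul_mem ha ha) (mul_mem hc hc) (one_mem _) (one_mem _) (h.trans s.oI) with h | h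
  · rcases sq_one s.h3 ha h.1 with rfl | rfl <;> rcases sq_one s.h3 hc h.2 with rfl | rfl <;>
      simp [s.rt, s.t2]
  · rw [one_mul] at h
    obtain ⟨k, hk, rfl⟩ := conj_ii (two_ne s.h3) s.nsq ha h.1
    obtain ⟨k', hk', rfl⟩ := conj_ii (two_ne s.h3) s.nsq hc h.2
    refine Or.inr (Or.inr ⟨_, mul_mem (s.LI hk) (s.RI hk'), ?_⟩)
    rw [s.mulI hk' ii_mem, mul_inv_rev, ← map_inv, ← map_inv, s.LR (inv_mem hk) (inv_mem hk'),
      s.mulI (mul_mem hk' ii_mem) (inv_mem hk)]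

theorem invO (hg : g * w ∈ I1 ι w) (h : g * g = 1) :
    ∃ a ∈ L0 F, g = ι a * w * (ι a)⁻¹ ∨ g = ι a * (ι tt * w) * (ι a)⁻¹ := by
  obtain ⟨a, ha, c, hc, e, e1⟩ := s.oform hg
  refine ⟨a, ha, (s.L12' (mul_mem ha hc) (mul_mem hc ha) (one_mem _) (one_mem _)
    (e1.symm.trans (h.trans s.oI))).imp (fun h => ?_) fun h => ?_⟩
  · rw [e, eq_inv_of_mul_eq_one_left h.2, mul_assoc, ← s.w_i, map_inv, mul_assoc]
  · rw [e, eq_mul_inv_of_mul_eq h.2, one_mul, map_mul, s.rt, mul_assoc, mul_assoc, ← s.w_i, map_inv]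
    simp only [mul_assoc]

theorem NI (hn : n ∈ Nor ι.range) (h : n * ι tt = ι tt * n) : n ∈ I1 ι w := by
  obtain ⟨c, a, rfl⟩ := s.NP hn
  obtain ⟨z, l, hl, e⟩ := s.Ct ⟨c, rfl⟩ (c1.1 (mem_of_eq (mul_mem (c1.2 h)
    (inv_mem (c1.2 (s.wLt (hh_mem a))))) (by group)))
  rw [e, ← s.wx, ← s.rh_eq, ← s.rh_eq]
  exact mul_mem (mul_mem (s.RI (mx_mem z)) (s.LI hl)) (s.RI (hh_mem a))

theorem zt {e : G} (he : e ∈ zpowers (ι tt)) : e = 1 ∨ e = ι tt := zp2 s.t2 he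

theorem NV (h1 : g * ι ii * g⁻¹ ∈ St.V ι) (h2 : g * ι jj * g⁻¹ ∈ St.V ι) : g ∈ I1 ι w := by
  have iV : ι ii ∈ St.V ι := mem_sup_left (mem_zpowers _)
  have jV : ι jj ∈ St.V ι := mem_sup_right (mem_zpowers _)
  have VL : St.V ι ≤ (L0 F).map ι :=
    sup_le (zpowers_le.2 (s.mm.2 ii_mem)) (zpowers_le.2 (s.mm.2 jj_mem))
  have hg : g ∈ Nor (St.V ι) := mnor fun k hk => (show St.V ι ≤ (St.V ι).comap
    (MulAut.conj g).toMonoidHom from sup_le (zpowers_le.2 h1) (zpowers_le.2 h2)) hk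
  have tV : ι tt ∈ St.V ι := s.i2 ▸ mul_mem iV iV
  have c1 : L2 ι w ≤ Cen (St.V ι) := fun x hx => by
    obtain ⟨l, hl, rfl⟩ := s.mem_L2.1 hx
    exact GW.cen.2 fun y hy => by obtain ⟨a, ha, rfl⟩ := VL hy; exact s.LL ha hl
  obtain ⟨y, hy, l, hl, e⟩ := s.cenR tV (zpowers_le.2 tV) (zpowers_le.2 (GW.cen.2 fun y hy => by
      obtain ⟨a, ha, rfl⟩ := VL hy; exact s.cm.2 (L0_tt ha).symm)) (fun l hl h => by
      rcases cenL s.h3 hl (s.cm.1 (GW.cen.1 h _ iV)) (s.cm.1 (GW.cen.1 h _ jV)) with rfl | rfl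
      · exact map_one ι ▸ one_mem _
      · exact mem_zpowers _) (fun y hy e => (s.zt hy).resolve_right fun h => s.t1 (by
        rwa [h, pow_three', s.t2, one_mul] at e)) c1
    (cmem (mcen hg) (c1 (s.mem_L2.2 ⟨_, uu_mem, s.wx 1⟩)))
  obtain ⟨l', hl', e'⟩ : ∃ l' ∈ L0 F, g * ι (zz 1) * g⁻¹ = rh ι w l' := by
    rcases s.zt hy with rfl | rfl
    · exact ⟨l, hl, by rw [e, one_mul, s.rh_eq]⟩
    · exact ⟨_, mul_mem tt_mem hl, by rw [e, map_mul, s.rt, s.rh_eq]⟩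
  obtain ⟨k, hk, x, e1⟩ := conj_cube s.h3 hl' (s.rinj (by
    rw [map_pow, ← e', map_one]; exact cube_conj (s.cubeM (s.zM 1)) g))
  have gt : g * ι tt = ι tt * g := by
    obtain ⟨a, ha, e2⟩ := VL (cmem hg tV)
    rw [← mul_inv_eq_iff_eq_mul, ← e2]
    rcases sq_one s.h3 ha (s.inj (by rw [map_mul, e2, conj_mul, s.t2, map_one]; group)) with rfl | rfl
    · exact absurd (conj_eq_one_iff.1 (e2.symm.trans (map_one ι))) s.t1
    · rfl
  refine mem_of_eq (mul_mem (inv_mem (s.RI hk)) (s.NI (n := rh ι w k * g)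
    (s.of_zz one_ne_zero (z' := x) ?_) ?_)) (by group)
  · rw [← s.wx x, ← s.rh_eq, ← e1, map_mul, map_mul, ← e', map_inv]; group
  · rw [mul_assoc, gt, ← mul_assoc, s.LR tt_mem hk, mul_assoc]

theorem i4 : ι ii ^ 4 = 1 := by rw [← map_pow, ii4, map_one]

theorem nori (h : g ∈ Nor (zpowers (ι ii))) :
    (g * ι ii * g⁻¹ = ι ii ∨ g * ι ii * g⁻¹ = (ι ii)⁻¹) ∧ g * ι tt = ι tt * g := by
  have k : g * ι ii * g⁻¹ * (g * ι ii * g⁻¹) = g * ι tt * g⁻¹ := by rw [conj_mul, s.i2]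
  rw [← mul_inv_eq_iff_eq_mul (c := ι tt), ← k]
  rcases zp4 s.i4 (cmem h (mem_zpowers _)) with e | e | e | e <;> rw [e] at k ⊢
  · exact absurd (conj_eq_one_iff.1 (k.symm.trans (mul_one 1))) s.t1
  · exact ⟨Or.inl rfl, s.i2⟩
  · exact absurd (conj_eq_one_iff.1 (k.symm.trans (by rw [s.i2, s.t2]))) s.t1
  · exact ⟨Or.inr rfl, by rw [← mul_inv_rev, s.i2, ← map_inv, tt_inv]⟩

theorem ji : ι jj * ι ii * (ι jj)⁻¹ = (ι ii)⁻¹ := by
  rw [← map_inv, ← map_mul, ← map_mul, jj_ii s.h3, map_inv]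

theorem iinv : ι ii ≠ (ι ii)⁻¹ := fun e => s.t1 (by rw [← s.i2]; exact mul_eq_one_iff_eq_inv.2 e)

theorem Ni : Nor (zpowers (ι ii)) ≤ I1 ι w := by
  have YL : ∀ y ∈ zpowers (ι ii), ∃ l ∈ L0 F, ι l = y := fun y hy =>
    zpowers_le.2 (s.mm.2 ii_mem) hy
  have Y4 : ∀ y ∈ zpowers (ι ii), y ^ 4 = 1 := by
    rintro _ ⟨k, rfl⟩
    simp only []
    rw [← zpow_natCast, ← zpow_mul, mul_comm, zpow_mul, zpow_natCast, s.i4, one_zpow]
  have Y3 : ∀ y ∈ zpowers (ι ii), y ^ 3 = 1 → y = 1 := fun y hy e => by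
    have := Y4 y hy
    rwa [pow_succ, e, one_mul] at this
  have tY : ι tt ∈ zpowers (ι ii) := s.i2 ▸ mul_mem (mem_zpowers _) (mem_zpowers _)
  have cx : ∀ h ∈ Nor (zpowers (ι ii)), h * ι jj * h⁻¹ * (ι jj)⁻¹ ∈ zpowers (ι ii) →
      h ∈ I1 ι w := fun h h1 h2 => s.NV (mem_sup_left (cmem h1 (mem_zpowers _)))
    (mem_of_eq (mul_mem (mem_sup_left h2) (mem_sup_right (mem_zpowers _))) (by group))
  have jN : ι jj ∈ Nor (zpowers (ι ii)) := H9.mem_Nor.2 (s.ji ▸ inv_mem (mem_zpowers _))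
  have ZM : (Z0 F).map ι ≤ (M0 F).map ι := map_mono Z0_le_M0
  have cz : ∀ h : G, ∀ z : F, h * ι (zz z) * h⁻¹ * (ι (zz z))⁻¹ ∈ zpowers (ι ii) →
      h * ι (zz z) = ι (zz z) * h := fun h z e => by
    obtain ⟨l, -, e1⟩ := YL _ e
    have h1 := cube_conj (s.cubeM (s.zM z)) h
    rw [mul_inv_eq_iff_eq_mul.1 e1.symm, Commute.mul_pow (s.cz ⟨l, rfl⟩ z), s.cubeM (s.zM z),
      mul_one, e1] at h1
    exact mul_inv_eq_iff_eq_mul.1 (mul_inv_eq_one.1 (Y3 _ e h1))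
  have RN : ∀ l ∈ L0 F, rh ι w l ∈ Nor (zpowers (ι ii)) := fun l hl => mzp (c1.2 (s.LR ii_mem hl))
  refine zmod (p := 3) (A := (Z0 F).map ι) le_normalizer le_rfl jN (fun e => jj_nmem s.h3 (s.mm.1 (by
    rwa [MonoidHom.map_zpowers]))) (by rwa [← map_mul, jj_sq s.h3]) (fun g hg e => ?_) cx ?_
    (fun a ha b hb => by rw [s.commM (ZM ha) (ZM hb)]; simp) (fun a ha => s.cubeM (ZM ha) ▸ one_mem _)
    ?_ ?_ (Or.inr fun O OH On O2 c hc c3 h => ?_)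
  · have y2 : g * ι jj * g⁻¹ * (g * ι jj * g⁻¹) = ι tt := by
      rw [conj_mul, ← map_mul, jj_sq s.h3, (s.nori hg).2, mul_inv_cancel_right]
    have yi : g * ι jj * g⁻¹ * ι ii * (g * ι jj * g⁻¹)⁻¹ = (ι ii)⁻¹ := by
      calc _ = g * (ι jj * (g⁻¹ * ι ii * g⁻¹⁻¹) * (ι jj)⁻¹) * g⁻¹ := by group
        _ = g * (g⁻¹ * ι ii * g⁻¹⁻¹)⁻¹ * g⁻¹ := by
          rcases (s.nori (inv_mem hg)).1 with e | e <;> rw [e]
          · rw [s.ji]
          · rw [← conj_inv, s.ji]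
        _ = _ := by group
    obtain ⟨a, ha, a2, e1 | e1⟩ := s.root (IK (cx _ (mul_mem (mul_mem hg jN) (inv_mem hg)) e)) y2 <;>
      rw [e1] at yi e ⊢
    swap
    · rw [s.LR ii_mem ha, mul_inv_cancel_right] at yi
      exact absurd yi s.iinv
    rw [← MonoidHom.map_zpowers] at e ⊢
    rw [← map_inv, ← map_mul, s.mm]
    exact iso_i s.h3 s.nsq ha a2 (s.inj (by simpa using yi)) (s.mm.1 (by simpa using e))
  · rintro _ ⟨_, ⟨z, rfl⟩, rfl⟩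
    exact mzp (c1.2 (s.cz ⟨_, rfl⟩ z).symm)
  · rintro _ ⟨_, ⟨z, rfl⟩, rfl⟩
    by_contra! h
    have h1 := Nat.card_le_card_of_injective (fun y : F => (⟨ι (zz y), by
      obtain ⟨k, e⟩ := h _ (s.mm.2 (zz_mem y))
      exact ⟨k, mul_inv_eq_one.1 (Y3 _ e (s.cubeM (mul_mem (zpow_mem (s.zM z) k)
        (inv_mem (s.zM y)))))⟩⟩ : zpowers (ι (zz z))))
      fun a b e => zz_inj (s.inj (congrArg Subtype.val e))
    have h2 := orderOf_le_of_pow_eq_one (by norm_num) (s.cubeM (s.zM z))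
    have h3 := s.card
    rw [Nat.card_zpowers] at h1
    omega
  · rintro _ ⟨_, ⟨z, rfl⟩, rfl⟩ z1 h h1 h2
    exact s.NI (le_normalizer (s.of_cz (fun e => z1 (by rw [e, zz_zero, map_one]; exact one_mem _))
      (cz h z h2))) (s.nori h1).2
  · obtain ⟨z, l, hl, rfl⟩ := s.Ct (s.of_cz one_ne_zero (cz c 1 (h _ (s.mm.2 (zz_mem 1)))))
      (s.nori (OH hc)).2
    have cm : Commute (ι (zz z)) (ι l) := (s.cz ⟨l, rfl⟩ z).symm
    have z3 := s.cubeM (s.zM z)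
    have k1 : l * l * ii = ii * (l * l) := sq_comm (by
      have := (s.nori (OH hc)).1
      rw [cm.eq, mul_assoc (ι l), ← s.cz ⟨_, rfl⟩, show ι l * (ι ii * ι (zz z)) * (ι l * ι (zz z))⁻¹ =
        ι l * ι ii * (ι l)⁻¹ by group] at this
      exact this.imp (fun e => s.inj (by simpa using e)) fun e => s.inj (by simpa using e))
    have k2 : l ^ 4 = 1 := T_cube s.h3 (pow_mem hl 4) (by
      rw [show l ^ 4 = l * l * (l * l) by rw [pow_succ, pow_three', mul_assoc], mul_assoc, k1, ← mul_assoc, k1, mul_assoc])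
      (s.inj (by
        have := Y4 _ c3
        rwa [cm.mul_pow, z3, one_mul, ← pow_mul, mul_comm, pow_mul, ← map_pow, ← map_pow,
          ← map_one ι] at this))
    have k3 : (ι (zz z) * ι l) ^ 4 = ι (zz z) := by
      rw [cm.mul_pow, ← map_pow ι l, k2, map_one, mul_one, pow_succ, z3, one_mul]
    by_cases hz : z = 0
    · refine mem_of_eq (inv_mem c3) (inv_eq_of_mul_eq_one_right ?_)
      rw [← pow_succ, k3, hz, zz_zero, map_one]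
    have k4 : ι (zz z) ∈ O := k3 ▸ pow_mem hc 4
    have k5 : ι (zz 1) ∈ O := by
      have k : ∀ r : F, r ≠ 0 → ι (zz (r ^ 2)) ∈ O → ι (zz 1) ∈ O := fun r h e => by
        have e1 := s.h2z (Units.mk0 r h) 1
        rw [mul_one, Units.val_mk0, ← s.rh_eq] at e1
        exact mem_of_eq (On _ (inv_mem (RN _ (hh_mem (Units.mk0 r h)))) _ e) (by rw [← e1]; group)
      rcases s.sq z hz with ⟨r, rfl⟩ | ⟨r, rfl⟩
      · exact k r (by simpa using hz) k4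
      · exact k r (by simpa using hz) (inv_mem_iff.1 (by rwa [← map_inv, ← zz_neg]))
    rw [← s.wx, ← s.rh_eq] at k5
    have k6 : rh ι w (jj * ii⁻¹) ∈ O := mem_of_eq (mul_mem k5 (On _ (RN _ ii_mem) _ (inv_mem k5)))
      (by simp [jj, uu, mul_assoc])
    have k7 : (jj : HC F) * ii⁻¹ * (jj * ii⁻¹) = tt := by
      calc _ = ((jj : HC F) * ii * jj⁻¹)⁻¹ * (jj * jj) * ii⁻¹ := by group
        _ = _ := by rw [jj_ii s.h3, jj_sq s.h3, inv_inv, ← tt_ii, mul_inv_cancel_right]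
    obtain ⟨a, ha, e⟩ := YL _ (O2 _ k6 (by rwa [← map_mul, k7, s.rt]))
    exact absurd e (s.iR (mul_mem jj_mem (inv_mem ii_mem)) ha (s.inj (by
      rw [map_mul, e, ← map_mul, k7, s.rt])))

theorem KA (ha : a ∈ L0 F) (a2 : a * a = tt) (hg : g ∈ Cen1 (ι tt)) (h : g * ι a * g⁻¹ ∈ K1 ι w) :
    g ∈ K1 ι w := by
  obtain ⟨k, hk, e⟩ := s.root' h (by rw [conj_mul, ← map_mul, a2, c1'.1 hg])
  obtain ⟨k', hk', e'⟩ := s.root' (IK (s.LI ha)) (by rw [← map_mul, a2])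
  refine mem_of_eq (mul_mem (mul_mem hk (IK (s.Ni (mzp (c1'.2 (?_ : k⁻¹ * g * k' * _ * _ = _))))))
    (inv_mem hk')) (by group)
  calc _ = k⁻¹ * (g * (k' * ι ii * k'⁻¹) * g⁻¹) * k := by group
    _ = _ := by rw [e', ← e]; group

theorem b2 : ι ii * rh ι w ii * (ι ii * rh ι w ii) = 1 := by
  rw [s.mulI ii_mem ii_mem, ii_sq, s.rt, s.t2]

theorem bI : ι ii * rh ι w ii ∈ I1 ι w := mul_mem (s.LI ii_mem) (s.RI ii_mem)

theorem bt : ι tt * (ι ii * rh ι w ii) = ι ii * rh ι w ii * ι tt := (c1.1 (s.KC (IK s.bI))).symm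

theorem iiv : (ι ii)⁻¹ = ι tt * ι ii := by rw [← map_inv, ii_inv, ← tt_ii, map_mul]

theorem jb : ι jj * (ι ii * rh ι w ii) * (ι jj)⁻¹ = ι tt * (ι ii * rh ι w ii) := by
  rw [← mul_assoc (ι tt), ← s.iiv, ← s.ji, mul_assoc, mul_assoc, ← map_inv,
    s.LR (inv_mem jj_mem) ii_mem]
  simp only [mul_assoc]

theorem b1 {e : G} (he : e ∈ zpowers (ι tt)) : ι ii * rh ι w ii ≠ e := fun h => by
  have k : ∀ a : HC F, a * a = 1 → ii ≠ a := fun a e h => tt_ne s.h3 (by rw [← ii_sq (F := F), h, e])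
  rcases s.zt he with rfl | rfl
  · rcases s.L12' ii_mem ii_mem (one_mem _) (one_mem _) (h.trans s.oI) with h | h
    · exact k _ (mul_one 1) h.1
    · exact k _ tt_sq (h.2.trans (one_mul _))
  · rcases s.L12' ii_mem ii_mem tt_mem (one_mem _) (h.trans s.tI) with h | h
    · exact k _ (mul_one 1) h.2
    · exact k _ tt_sq (h.2.trans (one_mul _))

end W0

end HY
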