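import Cfsg.Agent.HY.H

/-! The centralizers of the involutions; generation. -/

set_option autoImplicit false
set_option linter.unusedSectionVars false
set_option linter.unusedVariables false

namespace HY

open Cfsg FT H4 GW H9.HC
open Subgroup hiding one
open H9 (HC bo V3)
open H5 (mem_of_eq IsSylowOf)

variable {G F : Type*} [Group G] [Finite G] [Field F] [Finite F]

theorem ji_sq (h3 : (3 : F) = 0) : (ii : HC F) * jj * (ii * jj) = tt := by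
  calc _ = (ii : HC F) * (jj * ii * jj⁻¹) * (jj * jj) := by group
    _ = _ := by rw [jj_ii h3, jj_sq h3, mul_inv_cancel, one_mul]

theorem ji_sq' (h3 : (3 : F) = 0) : (ii : HC F) * jj⁻¹ * (ii * jj⁻¹) = tt := by
  rw [inv_of_sq (jj_sq h3), ← mul_assoc ii, mul_assoc _ tt, ← L0_tt (mul_mem (mul_mem ii_mem jj_mem)
    tt_mem), mul_assoc _ tt, tt_sq, mul_one, ji_sq h3]

theorem cinj {g x y : G} (h : g * x * g⁻¹ = g * y * g⁻¹) : x = y :=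
  mul_left_cancel (mul_right_cancel h)

theorem pg2 {t : G} (h : t * t = 1) : IsPGroup 2 (zpowers t) :=
  pg_zp (k := 1) (by rw [pow_one, sq, h])

namespace W0

variable {ι : HC F →* G} {w : G} (s : W0 ι w) {g n x : G} {a c l : HC F}
include s

theorem ib : ι ii * (ι ii * rh ι w ii) = ι ii * rh ι w ii * ι ii := by
  rw [mul_assoc, s.LR ii_mem ii_mem]

theorem tK : ι tt ∈ K1 ι w := IK (s.LI tt_mem)

theorem Hb (hg : g ∈ Cen1 (ι tt)) (h : g * (ι ii * rh ι w ii) * g⁻¹ = ι ii * rh ι w ii ∨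
    g * (ι ii * rh ι w ii) * g⁻¹ = ι tt * (ι ii * rh ι w ii)) : g ∈ K1 ι w := by
  set b := ι ii * rh ι w ii with hb
  let Y := four (ι tt) b s.t2 s.b2 s.bt
  have tY : ι tt ∈ Y := left_mem_four ..
  have bY : b ∈ Y := right_mem_four ..
  have YK : Y ≤ K1 ι w := four_le _ _ _ s.tK (IK s.bI)
  have nY : ∀ g ∈ Cen1 (ι tt), g * b * g⁻¹ ∈ Y → g ∈ Cen1 (ι tt) ⊓ Nor Y := fun g hg h =>
    ⟨hg, mnor fun k hk => (show Y ≤ Y.comap (MulAut.conj g).toMonoidHom from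
      four_le _ _ _ (mem_comap.2 (mem_of_eq tY (c1'.1 hg).symm)) h) hk⟩
  have Y2 : ∀ a : HC F, a * a = tt → ι a ∉ Y := fun a e h => by
    have : ι a * ι a = 1 := by
      rcases h with h | h | h | h <;> rw [h]
      exacts [mul_one 1, s.t2, s.b2, by rw [mul_assoc, ← mul_assoc b, ← s.bt, mul_assoc (ι tt) b,
        s.b2, mul_one, s.t2]]
    exact s.t1 (by rw [← e, map_mul, this])
  have iH : ι ii ∈ Cen1 (ι tt) ⊓ Nor Y :=
    nY _ (s.KC (IK (s.LI ii_mem))) (by rw [s.ib, mul_inv_cancel_right]; exact bY)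
  have cA : ∀ a ∈ L0 F, a * a = tt → ∀ h ∈ Cen1 (ι tt) ⊓ Nor Y, h * ι a * h⁻¹ * (ι a)⁻¹ ∈ Y →
      h ∈ K1 ι w := fun a ha a2 h h1 h2 =>
    s.KA ha a2 h1.1 (mem_of_eq (mul_mem (YK h2) (IK (s.LI ha))) (by group))
  refine zmod2 (H := Cen1 (ι tt) ⊓ Nor Y) (Y := Y) (x := ι ii) (a := ι ii) (b := ι jj)
    (le_inf (YK.trans s.KC) le_normalizer) inf_le_right iH (Y2 _ ii_sq) (s.i2 ▸ tY)
    (fun g hg e => ?_) (cA _ ii_mem ii_sq) iH
    (nY _ (s.KC (IK (s.LI jj_mem))) (s.jb ▸ mul_mem tY bY)) (s.i2 ▸ tY)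
    (by rwa [← map_mul, jj_sq s.h3]) ?_ (Y2 _ ii_sq) (Y2 _ (jj_sq s.h3))
    (by rw [← map_inv, ← map_mul]; exact Y2 _ (ji_sq' s.h3)) ?_
    (nY g hg (h.elim (fun e => mem_of_eq bY e.symm) fun e => mem_of_eq (mul_mem tY bY) e.symm))
  · have yb : g * ι ii * g⁻¹ * b = b * (g * ι ii * g⁻¹) := by
      have := c1.1 ((show Y ≤ Cen1 (ι ii) from four_le _ _ _ (c1.2 (s.cm.2 tt_ii)) (c1.2 s.ib.symm))
        (cmem' hg.2 bY))
      calc _ = g * (ι ii * (g⁻¹ * b * g)) * g⁻¹ := by group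
        _ = _ := by rw [← this]; group
    obtain ⟨a, ha, a2, e1 | e1⟩ := s.root (cA _ ii_mem ii_sq _ (mul_mem (mul_mem hg iH) (inv_mem hg)) e)
      (by rw [conj_mul, s.i2, c1'.1 hg.1]) <;> rw [e1] at yb ⊢
    · rw [hb, mul_assoc, s.LR ha ii_mem, ← mul_assoc, ← mul_assoc, mul_left_inj, s.cm] at yb
      rcases T_sq s.h3 s.nsq ha yb a2 with rfl | rfl
      · rw [mul_inv_cancel]; exact one_mem _
      · rw [map_inv, ← mul_inv_rev, s.i2]; exact inv_mem tY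
    · rw [hb, ← mul_assoc, s.LR ii_mem ha, mul_assoc, mul_assoc, mul_right_inj, ← map_mul,
        ← map_mul] at yb
      rcases T_sq s.h3 s.nsq ha (s.rinj yb) a2 with rfl | rfl
      · rw [← map_inv, s.LR (inv_mem ii_mem) ii_mem, map_inv, s.iiv, mul_assoc]
        exact mul_mem tY bY
      · rw [map_inv, ← mul_inv_rev]; exact inv_mem bY
  · rw [mul_assoc (ι ii), mul_assoc, ← conj_inv, s.ji, inv_inv, s.i2]
    exact tY
  · rintro c (rfl | rfl | rfl)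
    exacts [cA _ ii_mem ii_sq, cA _ jj_mem (jj_sq s.h3),
      map_mul ι ii jj ▸ cA _ (mul_mem ii_mem jj_mem) (ji_sq s.h3)]

theorem sq_b (ha : a ∈ L0 F) (hc : c ∈ L0 F)
    (h : ι a * rh ι w c * (ι ii * rh ι w ii) = ι ii * rh ι w ii * (ι a * rh ι w c)) :
    a * a * ii = ii * (a * a) ∧ c * c * ii = ii * (c * c) := by
  rw [s.mulI hc ii_mem, s.mulI ii_mem ha] at h
  have k : ∀ a ∈ L0 F, a * ii = ii * a * tt → a * ii * a⁻¹ = ii⁻¹ := fun a ha e => by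
    rw [e, mul_assoc ii, L0_tt ha, ii_inv]; group
  rcases s.L12' (mul_mem ha ii_mem) (mul_mem hc ii_mem) (mul_mem ii_mem ha) (mul_mem ii_mem hc) h
    with h | h
  · exact ⟨sq_comm (Or.inl (by rw [h.1]; group)), sq_comm (Or.inl (by rw [h.2]; group))⟩
  · exact ⟨sq_comm (Or.inr (k a ha h.1)), sq_comm (Or.inr (k c hc h.2))⟩

theorem cube_b (hg : g ∈ K1 ι w) (h : g * (ι ii * rh ι w ii) = ι ii * rh ι w ii * g)
    (e : g ^ 3 = 1) : g = 1 := by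
  obtain ⟨a, ha, c, hc, rfl⟩ := s.mem_I.1 (inv_mem_iff.1 (cube_inv e ▸ s.sqI hg))
  obtain ⟨h1, h2⟩ := s.sq_b ha hc h
  have k : ∀ a ∈ L0 F, a * a * ii = ii * (a * a) → a ^ 3 = 1 ∨ a ^ 3 = 1 * tt → a * a = 1 :=
    fun a ha h e => T_cube s.h3 (mul_mem ha ha) h (by
      rw [(Commute.refl a).mul_pow]
      rcases e with e | e <;> rw [e] <;> simp [tt_sq])
  have e1 := e
  rw [Commute.mul_pow (s.LR ha hc).symm, ← map_pow, ← map_pow] at e1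
  have e2 := s.L12' (pow_mem ha 3) (pow_mem hc 3) (one_mem _) (one_mem _) (e1.trans s.oI)
  have e3 := cube_inv e
  rw [s.mulI hc ha, k a ha h1 (e2.imp And.left And.left), k c hc h2 (e2.imp And.right And.right),
    ← s.oI] at e3
  exact inv_eq_one.1 e3.symm

theorem wnI : w ∉ I1 ι w := fun h => by
  obtain ⟨l, hl, e⟩ := s.cjI h ii_mem
  rw [s.inv, ← s.rh_eq] at e
  exact s.iR ii_mem hl (s.inj (by rw [map_mul, ← e, ← map_mul, ii_sq, s.rt])) e.symm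

theorem Kt : Cen1 (ι tt) ≤ K1 ι w := fun g hg => by
  set b := ι ii * rh ι w ii with hb
  have bC : b ∈ Cen1 (ι tt) := s.KC (IK s.bI)
  have y2 : g * ι ii * g⁻¹ * (g * ι ii * g⁻¹) = ι tt := by rw [conj_mul, s.i2, c1'.1 hg]
  refine s.KA ii_mem ii_sq hg ?_
  have yC : g * ι ii * g⁻¹ ∈ Cen1 (ι tt) :=
    mul_mem (mul_mem hg (s.KC (IK (s.LI ii_mem)))) (inv_mem hg)
  generalize g * ι ii * g⁻¹ = y at y2 yC
  have k1 : ∀ p q : G, p * q⁻¹ ∈ zpowers (ι tt) → p = q ∨ p = ι tt * q := fun p q h =>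
    (s.zt h).imp mul_inv_eq_one.1 mul_inv_eq_iff_eq_mul.1
  have k0 : ∀ p q, q ∈ Cen1 (ι tt) → p * q⁻¹ ∈ zpowers (ι tt) → p * p = q * q := fun p q hq h => by
    rcases k1 p q h with rfl | rfl
    · rfl
    · rw [mul_assoc, ← mul_assoc q, c1.1 hq, mul_assoc, ← mul_assoc, s.t2, one_mul]
  obtain ⟨u, uC, uY, u2, ub, yu, k, kC, e⟩ := dmod (H := Cen1 (ι tt)) (Y := zpowers (ι tt))
    (fun x hx => mzp hx) bC yC (s.b2 ▸ one_mem _) (y2 ▸ mem_zpowers _) (fun k hk e => s.t1 (by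
      rw [← y2, ← k0 _ _ yC e, conj_mul, s.b2]; group))
  have uK := s.Hb uC (k1 _ _ ub)
  have k2 : ∀ k ∈ K1 ι w, ∀ p, k * p * k⁻¹ = u → k⁻¹ * y * k * p * (k⁻¹ * y * k)⁻¹ = p ∨
      k⁻¹ * y * k * p * (k⁻¹ * y * k)⁻¹ = ι tt * p := fun k hk p e => by
    rw [show k⁻¹ * y * k * p * (k⁻¹ * y * k)⁻¹ = k⁻¹ * (y * (k * p * k⁻¹) * y⁻¹) * k by group, e]
    refine (k1 _ _ yu).imp (fun h => ?_) fun h => ?_ <;> rw [h, ← e]
    · group
    · rw [← mul_assoc k⁻¹, c1.1 (inv_mem (s.KC hk))]; group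
  have k3 : ∀ k ∈ K1 ι w, k⁻¹ * y * k ∈ K1 ι w → y ∈ K1 ι w := fun k hk h =>
    mem_of_eq (mul_mem (mul_mem hk h) (inv_mem hk)) (by group)
  rcases s.zt u2 with u2 | u2
  swap
  · obtain ⟨k, hk, e⟩ := s.root' uK u2
    refine k3 k hk (IK (s.Ni (H9.mem_Nor.2 ?_)))
    rcases k2 k hk _ e with e | e <;> rw [e]
    · exact mem_zpowers _
    · exact s.iiv ▸ inv_mem (mem_zpowers _)
  rcases s.mem_K uK with h | h
  · rcases s.invI h u2 with rfl | rfl | ⟨k, hk, e⟩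
    · exact absurd (one_mem _) uY
    · exact absurd (mem_zpowers _) uY
    · exact k3 k (IK hk) (s.Hb (mul_mem (mul_mem (inv_mem (s.KC (IK hk))) yC) (s.KC (IK hk)))
        (k2 k (IK hk) _ e))
  have h1 : b * u * w ∈ I1 ι w := by rw [mul_assoc]; exact mul_mem s.bI h
  rcases e with e | e
  swap
  · exact absurd (by rw [← k0 _ _ (mul_mem bC uC) e, conj_mul, y2, c1'.1 kC]) (s.sqO h1)
  have h2 : k * b * k⁻¹ * w ∈ I1 ι w := by
    rcases k1 _ _ e with e | e <;> rw [e]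
    · exact h1
    · rw [mul_assoc]; exact mul_mem (s.LI tt_mem) h1
  have dI : ι uu * rh ι w uu ∈ I1 ι w := mul_mem (s.LI uu_mem) (s.RI uu_mem)
  have dw : ι uu * rh ι w uu ∈ Cen1 w := c1.2 (by
    rw [← mul_assoc, s.w_i, mul_assoc _ w, s.w_rh, ← mul_assoc, s.LR uu_mem uu_mem])
  have dt := s.KC (IK dI)
  obtain ⟨a, ha, e⟩ := s.invO h2 (by rw [conj_mul, s.b2]; group)
  obtain ⟨v, e, hv⟩ : ∃ v, k * b * k⁻¹ = ι a * v * (ι a)⁻¹ ∧ ι uu * rh ι w uu * v =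
      v * (ι uu * rh ι w uu) := by
    rcases e with e | e
    · exact ⟨_, e, c1.1 dw⟩
    · exact ⟨_, e, ((c1c.1 dt).mul_right (c1c.1 dw)).eq⟩
  have aC := s.KC (IK (s.LI ha))
  have h3 : k⁻¹ * ι a * (ι uu * rh ι w uu) * (k⁻¹ * ι a)⁻¹ * b =
      b * (k⁻¹ * ι a * (ι uu * rh ι w uu) * (k⁻¹ * ι a)⁻¹) := by
    have : b = k⁻¹ * ι a * v * (k⁻¹ * ι a)⁻¹ := by
      calc _ = k⁻¹ * (k * b * k⁻¹) * k := by group
        _ = _ := by rw [e]; group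
    rw [this, conj_mul, conj_mul, hv]
  have u3 : (uu : HC F) ^ 3 = 1 := M0_cube s.h3 (m0_mem _)
  have h4 := conj_eq_one_iff.1 (s.cube_b (s.Hb (mul_mem (mul_mem (mul_mem (inv_mem kC) aC) dt)
    (inv_mem (mul_mem (inv_mem kC) aC))) (Or.inl (mul_inv_eq_iff_eq_mul.2 h3))) h3 (cube_conj (by
      rw [Commute.mul_pow (s.LR uu_mem uu_mem).symm, ← map_pow, ← map_pow, u3]; simp) _))
  have u1 : (uu : HC F) * uu ≠ 1 := fun e => two_ne s.h3 (by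
    simpa [uu, m0, one_add_one_eq_two] using congrArg H9.HC.b e)
  rcases s.L12' uu_mem uu_mem (one_mem _) (one_mem _) (h4.trans s.oI) with h | h <;>
    exact absurd (by rw [h.1]; simp [tt_sq]) u1

theorem tb : ¬ IsConj (ι tt) (ι ii * rh ι w ii) := fun h => by
  set b := ι ii * rh ι w ii with hb
  have r2 : ι ii * w * (ι ii * w) = b := by rw [hb, s.rh_eq]; group
  obtain ⟨g, e⟩ : ∃ g, g * (ι ii * w) * g⁻¹ = ι ii := by
    obtain ⟨g, e⟩ := isConj_iff.1 h.symm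
    have e1 : g * (ι ii * w) * g⁻¹ * (g * (ι ii * w) * g⁻¹) = ι tt := by rw [conj_mul, r2, e]
    obtain ⟨k, -, e2⟩ := s.root' (s.Kt (c1.2 (by rw [← e1]; group))) e1
    exact ⟨k⁻¹ * g, cinj (g := k) (by rw [e2]; group)⟩
  have gb : g * b * g⁻¹ = ι tt := by rw [← r2, ← conj_mul, e, s.i2]
  have rK : ι ii * w ∈ K1 ι w := mul_mem (IK (s.LI ii_mem)) wK
  have k1 : ∀ x y : G, x * y = y * x → g * x * g⁻¹ * (g * y * g⁻¹) = g * y * g⁻¹ * (g * x * g⁻¹) :=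
    fun x y h => by rw [conj_mul, conj_mul, h]
  have k2 : ∀ x y : G, g * x * g⁻¹ * (g * y * g⁻¹) = g * y * g⁻¹ * (g * x * g⁻¹) → x * y = y * x :=
    fun x y h => cinj (by rwa [conj_mul, conj_mul] at h)
  have ti := k1 _ _ (c1.1 (s.KC rK)).symm
  rw [e] at ti
  obtain ⟨a, ha, c, hc, a2, e1⟩ : ∃ a ∈ L0 F, ∃ c ∈ L0 F, a * a = tt ∧
      g * ι tt * g⁻¹ = ι a * rh ι w c := by
    rcases s.invI (s.Ni (mzp (c1.2 ti))) (by rw [conj_mul, s.t2]; group) with e | e | ⟨k, hk, e⟩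
    · exact absurd (conj_eq_one_iff.1 e) s.t1
    · exact absurd (cinj (gb.trans e.symm)) (s.b1 (mem_zpowers _))
    · obtain ⟨a, ha, c, hc, rfl⟩ := s.mem_I.1 hk
      exact ⟨_, mul_mem (mul_mem ha ii_mem) (inv_mem ha), _, mul_mem (mul_mem hc ii_mem) (inv_mem hc),
        by rw [conj_mul, ii_sq, L0_tt ha, mul_inv_cancel_right], by
        rw [← e, s.mulI hc ii_mem, mul_inv_rev, ← map_inv, ← map_inv, s.LR (inv_mem ha) (inv_mem hc),
          s.mulI (mul_mem hc ii_mem) (inv_mem ha)]⟩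
  rw [e1, mul_assoc, s.LR ii_mem hc, ← mul_assoc, ← mul_assoc, mul_left_inj, s.cm] at ti
  obtain ⟨r, hr⟩ := s.big
  obtain ⟨τ, hτ, τi, τ1, τ2⟩ := exists_T s.h3 s.nsq r.ne_zero hr
  have τa : τ * a = a * τ := by
    rcases T_sq s.h3 s.nsq ha ti a2 with rfl | rfl
    · exact τi
    · exact (Commute.inv_right τi).eq
  obtain ⟨σ, hσ⟩ : ∃ σ, g * σ * g⁻¹ = ι τ := ⟨g⁻¹ * ι τ * g, by group⟩
  have σr : Commute σ (ι ii * w) := k2 _ _ (by rw [hσ, e, s.cm, τi])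
  have σK : σ ∈ K1 ι w := s.Kt (c1.2 (k2 _ _ (by
    rw [hσ, e1, mul_assoc, s.LR hτ hc, ← mul_assoc, ← mul_assoc, s.cm.2 τa])))
  obtain ⟨p, hp, q, hq, e2⟩ := s.mem_I.1 (s.sqI σK)
  have h1 : Commute (σ * σ * (σ * σ)) (ι ii) := by
    have := (s.sq_b hp hq (by rw [e2, ← hb, ← r2]; exact ((σr.mul_left σr).mul_right
      (σr.mul_left σr)).eq)).1
    rw [← e2, s.mulI hq hp]
    exact Commute.mul_left (s.cm.2 this) (s.LR ii_mem (mul_mem hq hq))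
  have h2 : Commute (σ * σ * (σ * σ)) w := by
    have := h1.inv_right.mul_right ((σr.mul_left σr).mul_left (σr.mul_left σr))
    rwa [inv_mul_cancel_left] at this
  have h3 := k1 _ _ h2.eq
  rw [← conj_mul, ← conj_mul, hσ, ← map_mul, ← map_mul] at h3
  have τ4 := mul_mem (mul_mem hτ hτ) (mul_mem hτ hτ)
  have wb : w * b = b * w := by
    rw [hb, ← mul_assoc, s.w_i, mul_assoc _ w, s.w_rh, ← mul_assoc, s.LR ii_mem ii_mem]
  rcases s.mem_K (s.Kt (c1.2 (gb ▸ k1 _ _ wb))) with h | h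
  · obtain ⟨l, hl, e3⟩ := s.cjI h ii_mem
    have e4 : ι l = rh ι w c * ι (ii⁻¹ * a) := by
      rw [s.LR (mul_mem (inv_mem ii_mem) ha) hc, map_mul, mul_assoc, ← e1, map_inv, ← e3, ← e]
      calc _ = g * (w * (ι ii * w) * w⁻¹) * g⁻¹ := by group
        _ = g * ((ι ii * w)⁻¹ * ι tt) * g⁻¹ := by
          rw [mul_inv_rev, s.inv, s.iiv, mul_assoc w, mul_assoc (ι ii), s.r1, mul_one, mul_assoc w,
            mul_assoc (ι tt), s.cm.2 tt_ii.symm, ← mul_assoc (ι tt), s.t2, one_mul]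
        _ = _ := by group
    have l2 : l * l = tt := s.inj (by
      rw [map_mul, ← e3, conj_mul, s.i2, c1'.1 (s.KC (IK h))])
    rcases T_sq s.h3 s.nsq ha ti a2 with rfl | rfl
    · exact s.iR hc hl l2 (by simpa using e4)
    · exact s.iR (mul_mem hc tt_mem) hl l2 (by
        rw [e4, ← mul_inv_rev, ii_sq, tt_inv, map_mul, s.rt])
  · obtain ⟨l, hl, e3⟩ := s.cjO h τ4
    rw [← h3, mul_inv_cancel_right] at e3
    rcases s.L12 τ4 hl e3 with h | h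
    · exact (sq_one s.h3 (mul_mem hτ hτ) h.1).elim τ1 τ2
    · exact no8 s.h3 s.nsq h.1

theorem KG : K1 ι w ≤ ι.range ⊔ zpowers w := sup_le (fun g hg => by
  obtain ⟨a, ha, c, hc, rfl⟩ := s.mem_I.1 hg
  have := mem_sup_right (S := ι.range) (mem_zpowers w)
  rw [s.rh_eq]
  exact mul_mem (mem_sup_left ⟨_, rfl⟩) (mul_mem (mul_mem this (mem_sup_left ⟨_, rfl⟩)) this))
  le_sup_right

theorem exn : ∃ n ∈ ι.range ⊔ zpowers w, n * ι tt * n⁻¹ = w := by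
  have e := s.r3 1
  simp only [inv_one, Units.val_one, map_one, mul_one, hh_neg, s.r6] at e
  have e1 : (qq 0 1 0 : HC F)⁻¹ * tt * (qq 0 1 0)⁻¹⁻¹ = qq 0 1 0 * tt := by
    ext <;> simp [qq, tt]
    linear_combination -s.h3
  have e2 : (tt : HC F) * qq 0 1 0 * tt = (qq 0 1 0)⁻¹ := by ext <;> simp [qq, tt]
  have hx : (ι (qq 0 1 0))⁻¹ ∈ ι.range ⊔ zpowers w := inv_mem (mem_sup_left ⟨_, rfl⟩)
  refine ⟨_, mul_mem (mul_mem hx (mem_sup_right (mem_zpowers w))) hx, ?_⟩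
  have e3 := congrArg ι e1
  have e4 := congrArg ι e2
  simp only [map_mul, map_inv] at e3 e4
  calc _ = (ι (qq 0 1 0))⁻¹ * w * ((ι (qq 0 1 0))⁻¹ * ι tt * (ι (qq 0 1 0))⁻¹⁻¹) * w⁻¹ *
        ι (qq 0 1 0) := by group
    _ = (ι (qq 0 1 0))⁻¹ * (w * ι (qq 0 1 0) * w) * ι tt * ι (qq 0 1 0) := by
      rw [e3, s.inv, mul_assoc _ (ι _ * ι tt), mul_assoc _ (ι tt), ← s.wt]; group
    _ = w * (ι tt * ι (qq 0 1 0) * ι tt) * ι (qq 0 1 0) := by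
      rw [e, mul_assoc _ (ι tt) w, ← s.wt]; group
    _ = _ := by rw [e4]; group

theorem tw : IsConj (ι tt) w := by
  obtain ⟨n, -, e⟩ := s.exn
  exact isConj_iff.2 ⟨n, e⟩

theorem inn (hg : g ∈ I1 ι w) (h : IsConj (ι tt) g) : g = ι tt := by
  obtain ⟨k, e⟩ := isConj_iff.1 h
  rcases s.invI hg (by rw [← e, conj_mul, s.t2]; group) with rfl | rfl | ⟨k', -, e'⟩
  · exact absurd (conj_eq_one_iff.1 e) s.t1
  · rfl
  · exact absurd (h.trans (isConj_iff.2 ⟨k', e'⟩).symm) s.tb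

theorem syl : ∃ T, IsSylowOf 2 T (⊤ : Subgroup G) ∧ T ≤ K1 ι w := by
  obtain ⟨T, hT, h⟩ := H5.exists_isSylowOf_ge (q := 2) (pg_zp (k := 2) s.i4) (show zpowers (ι ii) ≤
    Cen1 (ι tt) from zpowers_le.2 (s.KC (IK (s.LI ii_mem))))
  have iT := h (mem_zpowers _)
  have tT : ι tt ∈ T := s.i2 ▸ mul_mem iT iT
  refine ⟨T, IsSylowOf.of_normalizer (hT.of_le (le_inf le_top le_normalizer) fun g hg => c1'.2
    (s.inn (s.Ni (mzp (c1.2 ?_))) (isConj_iff.2 ⟨g, rfl⟩))), hT.le.trans s.Kt⟩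
  calc _ = g * (ι tt * (g⁻¹ * ι ii * g)) * g⁻¹ := by group
    _ = _ := by rw [← c1.1 (hT.le (cmem' hg.2 iT))]; group

theorem twO : ι tt * w * w ∈ I1 ι w := by rw [mul_assoc, s.r1, mul_one]; exact s.LI tt_mem

theorem tw2 : ι tt * w * (ι tt * w) = 1 := by
  rw [mul_assoc, ← mul_assoc w, s.wt, mul_assoc, s.r1, mul_one, s.t2]

theorem out (hg : g * ι tt = ι tt * g) (h : IsConj (ι tt) g) (h1 : g ≠ ι tt) : g * w ∈ I1 ι w :=
  (s.mem_K (s.Kt (c1.2 hg))).resolve_left fun e => h1 (s.inn e h)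

theorem vw (ha : a ∈ L0 F) (a2 : a * a = tt) :
    ι a * w * (ι a)⁻¹ = ι a * rh ι w a * (ι tt * w) := by
  rw [← map_inv, mul_assoc, s.w_i, inv_of_sq a2, map_mul, s.rt]
  simp only [mul_assoc]

theorem wb : ∃ k ∈ ι.range ⊔ zpowers w, k * (ι ii * rh ι w ii) * k⁻¹ = ι tt * w := by
  obtain ⟨n, hn, e⟩ := s.exn
  have e' : n⁻¹ * w * n = ι tt := by rw [← e]; group
  have k : ∀ x, x * w = w * x → IsConj (ι tt) x → x ≠ w → n⁻¹ * x * n * w ∈ I1 ι w :=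
    fun x h1 h2 h3 => s.out (by
      rw [← e']
      calc _ = n⁻¹ * (x * w) * n := by group
        _ = _ := by rw [h1]; group) (h2.trans (isConj_iff.2 ⟨n⁻¹, by group⟩)) fun h =>
      h3 (by rw [← e, ← h]; group)
  have bw : ι ii * rh ι w ii * w = w * (ι ii * rh ι w ii) := by
    rw [← mul_assoc, s.w_i, mul_assoc _ w, s.w_rh, ← mul_assoc, s.LR ii_mem ii_mem]
  have h := s.oo (k _ s.wt.symm (IsConj.refl _) fun e => s.wnI (e ▸ s.LI tt_mem))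
    (k (ι ii * w * (ι ii)⁻¹) (by
      rw [s.vw ii_mem ii_sq]
      exact Commute.mul_left bw (Commute.mul_left s.wt.symm rfl)) (s.tw.trans (isConj_iff.2 ⟨_, rfl⟩))
      fun e => s.b1 (mem_zpowers _) (by
        rw [s.vw ii_mem ii_sq, ← mul_assoc, mul_eq_right] at e
        rw [eq_inv_of_mul_eq_one_left e, ← map_inv, tt_inv]))
  have e1 : n⁻¹ * ι tt * n * (n⁻¹ * (ι ii * w * (ι ii)⁻¹) * n) =
      n⁻¹ * ι ii * (ι tt * w) * (n⁻¹ * ι ii)⁻¹ := by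
    calc _ = n⁻¹ * (ι tt * ι ii) * w * (ι ii)⁻¹ * n := by group
      _ = _ := by rw [s.cm.2 tt_ii]; group
  rw [e1] at h
  rcases s.invI h (by rw [conj_mul, s.tw2]; group) with h | h | ⟨k, hk, h⟩
  · exact absurd (mem_of_eq s.twO (by rw [conj_eq_one_iff.1 h, one_mul])) s.wnI
  · refine absurd ?_ (s.b1 (one_mem _))
    replace h := h.trans e'.symm
    rw [← e1, s.vw ii_mem ii_sq, show n⁻¹ * ι tt * n * (n⁻¹ * (ι ii * rh ι w ii * (ι tt * w)) * n)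
      = n⁻¹ * (ι tt * (ι ii * rh ι w ii) * ι tt * w) * n by group, s.bt, mul_assoc _ (ι tt) (ι tt),
      s.t2] at h
    simpa using h
  · exact ⟨_, mul_mem (mul_mem (inv_mem (mem_sup_left ⟨ii, rfl⟩)) hn) (s.KG (IK hk)),
      cinj (g := n⁻¹ * ι ii) (by rw [← h]; group)⟩

theorem ttw : ¬ IsConj (ι tt) (ι tt * w) := fun h => by
  obtain ⟨k, -, e⟩ := s.wb
  exact s.tb (h.trans (isConj_iff.2 ⟨k, e⟩).symm)

theorem CG {k : G} (hk : k ∈ ι.range ⊔ zpowers w) (h : Cen1 x ≤ ι.range ⊔ zpowers w) :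
    Cen1 (k * x * k⁻¹) ≤ ι.range ⊔ zpowers w := fun g hg =>
  mem_of_eq (mul_mem (mul_mem hk (h (c1'.2 (cinj (g := k) (?_ : k * (k⁻¹ * g * k * x * _) * _ = _)))))
    (inv_mem hk)) (by group)
where finally
  rw [← c1'.1 hg]; group

theorem tG : Cen1 (ι tt) ≤ ι.range ⊔ zpowers w := s.Kt.trans s.KG

theorem wG : Cen1 w ≤ ι.range ⊔ zpowers w := by
  obtain ⟨n, hn, e⟩ := s.exn
  have := s.CG hn s.tG
  rwa [e] at this

theorem twt : ι tt * w * ι tt = w := by rw [mul_assoc, s.wt, ← mul_assoc, s.t2, one_mul]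

theorem iso3 (hg : g ∈ Cen1 (ι tt * w))
    (e : g * ι tt * g⁻¹ * ι tt * (g * ι tt * g⁻¹)⁻¹ * (ι tt)⁻¹ ∈ zpowers (ι tt * w)) :
    g * ι tt * g⁻¹ * (ι tt)⁻¹ ∈ zpowers (ι tt * w) := by
  have c1 : IsConj (ι tt) (g * ι tt * g⁻¹) := isConj_iff.2 ⟨g, rfl⟩
  have ti : (ι tt)⁻¹ = ι tt := by rw [← map_inv, tt_inv]
  have y2 : g * ι tt * g⁻¹ * (g * ι tt * g⁻¹) = 1 := by rw [conj_mul, s.t2]; group
  have c2 : IsConj (ι tt) (g * ι tt * g⁻¹ * (ι tt * w)) := s.tw.trans (isConj_iff.2 ⟨g, by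
    rw [← c1'.1 hg, conj_mul, ← mul_assoc (ι tt), s.t2, one_mul]⟩)
  generalize g * ι tt * g⁻¹ = y at c1 c2 y2 e
  rcases zp2 s.tw2 e with e | e
  · by_cases h : y = ι tt
    · rw [h, mul_inv_cancel]; exact one_mem _
    · have := s.inn (s.oo (s.out (mul_inv_eq_iff_eq_mul.1 (mul_inv_eq_one.1 e)) c1 h) s.twO) c2
      rw [eq_mul_inv_of_mul_eq this, inv_eq_of_mul_eq_one_left s.tw2, ti, mul_assoc, s.twt]
      exact mem_zpowers _
  exfalso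
  rw [ti, inv_eq_of_mul_eq_one_left y2] at e
  obtain ⟨T, hT, TK⟩ := s.syl
  have yw : y * w * y⁻¹ = ι tt := by
    rw [← s.twt, ← e, inv_eq_of_mul_eq_one_left y2]
    simp only [mul_assoc, ← mul_assoc (ι tt) (ι tt), s.t2, one_mul, ← mul_assoc y y, y2, mul_one]
  have yt : y * ι tt * y⁻¹ = w := by
    rw [← yw, inv_eq_of_mul_eq_one_left y2]
    simp only [mul_assoc, one_mul, ← mul_assoc y y, y2, mul_one]
  obtain ⟨k, -, hk⟩ := hT.exists_conj_le (Q := four (ι tt) w s.t2 s.r1 s.wt.symm ⊔ zpowers y)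
    (IsPGroup.to_sup_of_normal_left' (fun a => ⟨1, Subtype.ext ((elem_four ..).2 _ a.2)⟩) (pg2 y2)
       (zpowers_le.2
      (mnor fun x hx => (show four _ _ s.t2 s.r1 s.wt.symm ≤ (four _ _ s.t2 s.r1 s.wt.symm).comap
        (MulAut.conj y).toMonoidHom from four_le _ _ _ (mem_comap.2 (mem_of_eq (right_mem_four ..)
          yt.symm)) (mem_comap.2 (mem_of_eq (left_mem_four ..) yw.symm))) hx))) le_top
  have h1 : k * ι tt * k⁻¹ ∈ K1 ι w := TK (hk ⟨_, mem_sup_left (left_mem_four ..), rfl⟩)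
  have h2 : k * y * k⁻¹ ∈ K1 ι w := TK (hk ⟨_, mem_sup_right (mem_zpowers _), rfl⟩)
  have nc : k * y * k⁻¹ * (k * ι tt * k⁻¹) ≠ k * ι tt * k⁻¹ * (k * y * k⁻¹) := fun h => by
    rw [conj_mul, conj_mul] at h
    rw [cinj h, mul_inv_cancel_right] at yt
    exact s.wnI (yt ▸ s.LI tt_mem)
  have k1 : ∀ x ∈ K1 ι w, IsConj (ι tt) x → x ≠ ι tt → ∃ a ∈ L0 F, x = ι a * w * (ι a)⁻¹ :=
    fun x hx h h' => by
    obtain ⟨k, e⟩ := isConj_iff.1 h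
    obtain ⟨a, ha, e | e⟩ := s.invO (s.out (GW.c1.1 (s.KC hx)) h h') (by
      rw [← e, conj_mul, s.t2]; group)
    · exact ⟨a, ha, e⟩
    · exact absurd (h.trans (isConj_iff.2 ⟨_, e.symm⟩).symm) s.ttw
  obtain ⟨a, ha, e1⟩ := k1 _ h1 (isConj_iff.2 ⟨k, rfl⟩) fun h =>
    nc (by rw [h]; exact GW.c1.1 (s.KC h2))
  obtain ⟨c, hc, e2⟩ := k1 _ h2 (c1.trans (isConj_iff.2 ⟨k, rfl⟩)) fun h =>
    nc (by rw [h]; exact (GW.c1.1 (s.KC h1)).symm)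
  have hd := mul_mem (inv_mem hc) ha
  have e3 : (ι c)⁻¹ * k * (y * ι tt) * ((ι c)⁻¹ * k)⁻¹ = ι (c⁻¹ * a)⁻¹ * rh ι w (c⁻¹ * a) := by
    calc _ = (ι c)⁻¹ * (k * y * k⁻¹ * (k * ι tt * k⁻¹)) * ι c := by group
      _ = _ := by rw [e1, e2, ← s.LR (inv_mem hd) hd, s.rh_eq, map_inv, map_mul, map_inv]; group
  generalize c⁻¹ * a = d at hd e3
  have e4 : _ * _ = _ * _ := congrArg₂ (· * ·) e3 e3
  rw [conj_mul, ← mul_assoc (y * ι tt), e, s.mulI hd (inv_mem hd)] at e4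
  have e5 : _ * _ = _ * _ := congrArg₂ (· * ·) e4 e4
  have d2 := mul_mem hd hd
  have d3 := mul_mem (inv_mem hd) (inv_mem hd)
  rw [conj_mul, s.tw2, s.mulI d2 d3, mul_one, mul_inv_cancel] at e5
  rcases s.L12' (mul_mem d3 d3) (mul_mem d2 d2) (one_mem _) (one_mem _) (e5.symm.trans s.oI) with h | h
  · refine s.wnI (mem_of_eq s.twO ?_)
    rw [← mul_inv_rev] at e4
    rcases sq_one s.h3 d2 h.2 with h | h <;> rw [h] at e4
    · rw [conj_eq_one_iff.1 (e4.trans (by simp)), one_mul]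
    · rw [conj_eq_one_iff.1 (e4.trans (by rw [tt_inv, s.rt, s.t2])), one_mul]
  · exact no8 s.h3 s.nsq (h.2.trans (one_mul _))

theorem Cb : Cen1 (ι tt * w) ≤ ι.range ⊔ zpowers w := by
  have nY : ∀ g ∈ I1 ι w, g ≠ 1 → g ∉ zpowers (ι tt * w) := fun g hg g1 h => by
    rcases zp2 s.tw2 h with rfl | rfl
    · exact g1 rfl
    · exact s.wnI (mem_of_eq (mul_mem (inv_mem (s.LI tt_mem)) hg) (by group))
  have dC : ∀ a ∈ L0 F, ι a * rh ι w a ∈ Cen1 (ι tt * w) := fun a ha => c1c.2 (Commute.mul_right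
    (c1c.1 (s.KC (IK (mul_mem (s.LI ha) (s.RI ha))))) (show _ = _ by
      rw [← mul_assoc, s.w_i, mul_assoc _ w, s.w_rh, ← mul_assoc, s.LR ha ha]))
  have d2 : ∀ a ∈ L0 F, a * a = tt → ι a * rh ι w a * (ι a * rh ι w a) = 1 := fun a ha e => by
    rw [s.mulI ha ha, e, s.rt, s.t2]
  have dY : ∀ a ∈ L0 F, a * a = tt → ι a * rh ι w a ∉ zpowers (ι tt * w) := fun a ha e =>
    nY _ (mul_mem (s.LI ha) (s.RI ha)) fun h => s.iR (inv_mem ha) ha e (by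
      rw [map_inv]; exact eq_inv_of_mul_eq_one_left h)
  have cA : ∀ a ∈ L0 F, a * a = tt → ∀ h ∈ Cen1 (ι tt * w), h * (ι a * rh ι w a) * h⁻¹ *
      (ι a * rh ι w a)⁻¹ ∈ zpowers (ι tt * w) → h ∈ ι.range ⊔ zpowers w := fun a ha a2 h hh e => by
    rcases zp2 s.tw2 e with e | e
    · refine s.CG (mem_sup_left ⟨a, rfl⟩) s.wG (c1c.2 ?_)
      rw [s.vw ha a2]
      exact Commute.mul_right (mul_inv_eq_iff_eq_mul.1 (mul_inv_eq_one.1 e)) (c1c.1 hh)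
    · rw [mul_inv_eq_iff_eq_mul, ← c1.1 (dC a ha), ← s.vw ha a2] at e
      obtain ⟨k, hk, rfl⟩ := conj_ii (two_ne s.h3) s.nsq ha a2
      refine absurd ((s.tw.trans (isConj_iff.2 ⟨ι (k * ii * k⁻¹), rfl⟩)).trans (isConj_iff.2
        ⟨h * (ι k * rh ι w k), ?_⟩).symm) s.tb
      rw [← e, ← s.mulI (mul_mem hk ii_mem) (inv_mem hk), ← s.mulI hk ii_mem,
        ← s.LR (inv_mem hk) (inv_mem hk), map_inv, map_inv]
      group
  refine zmod2 (Y := zpowers (ι tt * w)) (x := ι tt) (a := ι ii * rh ι w ii) (b := ι jj * rh ι w jj)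
    (zpowers_le.2 (c1.2 rfl)) (fun x hx => mzp hx) (c1.2 (by rw [s.twt, ← mul_assoc, s.t2, one_mul]))
    (nY _ (s.LI tt_mem) s.t1) (s.t2 ▸ one_mem _) (fun g hg e => s.iso3 hg e) (fun h _ e => ?_)
    (dC _ ii_mem) (dC _ jj_mem) (s.b2 ▸ one_mem _) (d2 _ jj_mem (jj_sq s.h3) ▸ one_mem _) ?_
    (dY _ ii_mem ii_sq) (dY _ jj_mem (jj_sq s.h3)) ?_ ?_
  · rcases zp2 s.tw2 e with e | e
    · exact s.tG (c1'.2 (mul_inv_eq_one.1 e))
    · obtain ⟨n, hn, e1⟩ := s.exn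
      rw [mul_inv_eq_iff_eq_mul, s.twt, ← e1] at e
      refine mem_of_eq (mul_mem hn (s.tG (c1'.2 (?_ : n⁻¹ * h * _ * _ = _)))) (by group)
      exact cinj (g := n) (by rw [← e]; group)
  · have : (ii : HC F) * jj = jj * ii * tt := by
      rw [mul_inv_eq_iff_eq_mul.1 (jj_ii s.h3), ii_inv, mul_assoc, mul_assoc, ← mul_assoc tt, tt_jj,
        mul_assoc, tt_sq, mul_one]
    rw [s.mulI ii_mem jj_mem, mul_assoc, ← mul_inv_rev, s.mulI jj_mem ii_mem, this,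
      ← s.mulI (mul_mem jj_mem ii_mem) tt_mem, s.rt, s.t2, mul_one, mul_inv_cancel]
    exact one_mem _
  · rw [mul_inv_rev, ← map_inv, ← map_inv, s.LR (inv_mem jj_mem) (inv_mem jj_mem),
      s.mulI ii_mem (inv_mem jj_mem)]
    exact dY _ (mul_mem ii_mem (inv_mem jj_mem)) (ji_sq' s.h3)
  · rintro c (rfl | rfl | rfl)
    exacts [cA _ ii_mem ii_sq, cA _ jj_mem (jj_sq s.h3),
      s.mulI ii_mem jj_mem ▸ cA _ (mul_mem ii_mem jj_mem) (ji_sq s.h3)]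

theorem bG : Cen1 (ι ii * rh ι w ii) ≤ ι.range ⊔ zpowers w := by
  obtain ⟨k, hk, e⟩ := s.wb
  have := s.CG (inv_mem hk) s.Cb
  rwa [← e, show ∀ x, k⁻¹ * (k * x * k⁻¹) * k⁻¹⁻¹ = x by intro x; group] at this

theorem invG (hg : g ∈ ι.range ⊔ zpowers w) (g1 : g ≠ 1) (g2 : g * g = 1) :
    ∃ k ∈ ι.range ⊔ zpowers w, k * ι tt * k⁻¹ = g ∨ k * (ι ii * rh ι w ii) * k⁻¹ = g := by
  obtain ⟨T, hT, TK⟩ := s.syl
  obtain ⟨k, hk, h⟩ := (hT.of_le (TK.trans s.KG) le_top).exists_conj_le (pg2 g2)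
    (zpowers_le.2 hg)
  have h1 : k * g * k⁻¹ ∈ K1 ι w := TK (h ⟨_, mem_zpowers _, rfl⟩)
  have h2 : k * g * k⁻¹ * (k * g * k⁻¹) = 1 := by rw [conj_mul, g2]; group
  suffices ∃ k' ∈ ι.range ⊔ zpowers w, k' * ι tt * k'⁻¹ = k * g * k⁻¹ ∨
      k' * (ι ii * rh ι w ii) * k'⁻¹ = k * g * k⁻¹ by
    obtain ⟨k', hk', e⟩ := this
    exact ⟨_, mul_mem (inv_mem hk) hk', e.imp (fun e => cinj (g := k) (by rw [← e]; group))
      fun e => cinj (g := k) (by rw [← e]; group)⟩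
  rcases s.mem_K h1 with h | h
  · rcases s.invI h h2 with e | e | ⟨k', hk', e⟩
    · exact absurd (conj_eq_one_iff.1 e) g1
    · exact ⟨1, one_mem _, Or.inl (by rw [e]; group)⟩
    · exact ⟨k', s.KG (IK hk'), Or.inr e⟩
  · obtain ⟨a, ha, e | e⟩ := s.invO h h2
    · obtain ⟨n, hn, e1⟩ := s.exn
      exact ⟨_, mul_mem (mem_sup_left ⟨a, rfl⟩) hn, Or.inl (by rw [e, ← e1]; group)⟩
    · obtain ⟨n, hn, e1⟩ := s.wb
      exact ⟨_, mul_mem (mem_sup_left ⟨a, rfl⟩) hn, Or.inr (by rw [e, ← e1]; group)⟩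

theorem top : ι.range ⊔ zpowers w = ⊤ := eq_top_iff.2 fun g _ => by
  have y2 : g * ι tt * g⁻¹ * (g * ι tt * g⁻¹) = 1 := by rw [conj_mul, s.t2]; group
  have c1 : IsConj (ι tt) (g * ι tt * g⁻¹) := isConj_iff.2 ⟨g, rfl⟩
  obtain ⟨u, u1, u2, h1, h2, -⟩ := dih s.b2 y2 fun h => s.tb (c1.trans h.symm)
  have h3 : g * ι tt * g⁻¹ ∈ ι.range ⊔ zpowers w := by
    obtain ⟨k, hk, rfl | rfl⟩ := s.invG (s.bG (GW.c1.2 h1)) u1 u2
    exacts [s.CG hk s.tG (GW.c1.2 h2.symm), s.CG hk s.bG (GW.c1.2 h2.symm)]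
  obtain ⟨k, hk, e | e⟩ := s.invG h3 (fun e => s.t1 (conj_eq_one_iff.1 e)) y2
  · refine mem_of_eq (mul_mem hk (s.tG (c1'.2 (cinj (g := k) (?_ : k * (k⁻¹ * g * _ * _) * _ = _)))))
      (by group)
    rw [e]; group
  · exact absurd (c1.trans (isConj_iff.2 ⟨k, e⟩).symm) s.tb

end W0

end HY
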