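import Cfsg.Agent.HY.I
import Cfsg.Agent.H9.Psl2Perm

/-! The model and the main theorem. -/

set_option autoImplicit false
set_option linter.unusedSectionVars false
set_option linter.unusedVariables false

namespace HY

open Cfsg FT H4 GW H9.HC
open Subgroup hiding one
open H9 (HC Sp4)

variable {G F : Type*} [Group G] [Finite G] [Field F] [Finite F]

open Matrix in
theorem sp_key (h2 : (2 : F) ≠ 0) (g : Sp4 F) {z : F}
    (h : (g : PSp 2 F) * toP (zz (1 : F)) * (g : PSp 2 F)⁻¹ = toP (zz z)) :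
    g.1 (.inr 0) (.inl 0) = 0 ∧ ∃ r, z * r ^ 2 = 1 := by
  have h1 : toP (zz z) * (g : PSp 2 F) = (g : PSp 2 F) * toP (zz (1 : F)) := by rw [← h]; group
  have h3 : (toSp (zz z) * g)⁻¹ * (g * toSp (zz 1)) ∈ center (Sp4 F) := QuotientGroup.eq.1 h1
  have h4 : (g * toSp (zz 1)).1 = (toSp (zz z) * g).1 *
      ((toSp (zz z) * g)⁻¹ * (g * toSp (zz 1))).1 := by
    rw [← Submonoid.coe_mul, mul_inv_cancel_left]
  have c := congrFun (congrFun (SymplecticGroup.mem_iff'.1 g.2) (.inl 0)) (.inr 0)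
  rcases H9.center_sp h3 with h5 | h5 <;> rw [h5] at h4
  · have e := fun i j => congrFun (congrFun h4 i) j
    have e1 := e (.inl 0) (.inr 0)
    have e2 := e (.inl 1) (.inr 0)
    have e3 := e (.inr 0) (.inr 0)
    have e4 := e (.inr 1) (.inr 0)
    simp [toSp_val, mat, zz, Matrix.mul_apply, Fintype.sum_sum_type, Fin.sum_univ_two,
      fromBlocks] at e1 e2 e3 e4
    simp [Matrix.J, Matrix.mul_apply, Fintype.sum_sum_type, Fin.sum_univ_two, fromBlocks,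
      Matrix.one_apply, e2, e3, e4] at c
    exact ⟨e3, g.1 (.inr 0) (.inr 0), by linear_combination c - g.1 (.inr 0) (.inr 0) * e1⟩
  · have e := fun i j => congrFun (congrFun h4 i) j
    have e1 := e (.inl 0) (.inl 0)
    have e2 := e (.inl 1) (.inl 0)
    have e3 := e (.inr 0) (.inl 0)
    have e4 := e (.inr 1) (.inl 0)
    simp [toSp_val, mat, zz, Matrix.mul_apply, Fintype.sum_sum_type, Fin.sum_univ_two,
      fromBlocks] at e1 e2 e3 e4
    have k : ∀ a : F, a = -a → a = 0 := fun a e => mul_left_cancel₀ h2 (by linear_combination e)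
    have f2 := k _ e2
    have f3 := k _ e3
    have f4 := k _ e4
    have f1 := k (g.1 (.inl 0) (.inl 0)) (by linear_combination e1 - z * f3)
    simp [Matrix.J, Matrix.mul_apply, Fintype.sum_sum_type, Fin.sum_univ_two, fromBlocks,
      Matrix.one_apply, f1, f2, f3, f4] at c

theorem mk2 {ι : HC F →* G} (s : S0 ι) {m : ℕ} (hm : Odd m) (hm1 : 1 < m) (hF : Nat.card F = 3 ^ m)
    (nt : (∀ r : F, r ^ 2 ≠ -1) →
      ∃ z₁ z₂ : F, z₁ ≠ 0 ∧ z₂ ≠ 0 ∧ ∀ g : G, g * ι (zz z₁) * g⁻¹ ≠ ι (zz z₂)) :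
    ι.range.Normal ∨ ∃ w, Dt ι w ∧ ι.range ⊔ zpowers w = ⊤ := by
  have n1 : ¬ IsSquare (-1 : F) := by
    haveI := Fintype.ofFinite F
    rw [FiniteField.isSquare_neg_one_iff, ← Nat.card_eq_fintype_card, hF, not_not]
    obtain ⟨k, rfl⟩ := hm
    rw [pow_succ, pow_mul, Nat.mul_mod, Nat.pow_mod]
    simp
  have nsq : ∀ r : F, r ^ 2 ≠ -1 := fun r e => n1 ⟨r, by rw [← e, sq]⟩
  have s2 : S2 ι := ⟨s, nsq, fun a _ => by
    by_cases h : IsSquare a
    · exact Or.inl (h.imp fun r e => e.trans (sq r).symm)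
    · exact Or.inr ((H9.isSquare_mul_of_not n1 h).imp fun r e => by linear_combination -e),
    hF ▸ lt_of_lt_of_le (by norm_num) (Nat.pow_le_pow_right (by norm_num) hm1), nt nsq⟩
  by_cases h : Nor ((M0 F).map ι) ≤ Nor ι.range
  · exact Or.inl (St.main (m := m) ⟨s, hm, hm1, hF, h⟩)
  · obtain ⟨w, d⟩ := s2.exists_w h
    exact Or.inr ⟨w, W0.dt ⟨s2, d⟩, W0.top ⟨s2, d⟩⟩

theorem main41 {ι : HC F →* G} (s : S0 ι) {m : ℕ} (hm : Odd m) (hm1 : 1 < m)
    (hF : Nat.card F = 3 ^ m)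
    (nt : ∃ z₁ z₂ : F, z₁ ≠ 0 ∧ z₂ ≠ 0 ∧ ∀ g : G, g * ι (zz z₁) * g⁻¹ ≠ ι (zz z₂)) :
    ι.range.Normal ∨ Nonempty (G ≃* PSp 2 F) := by
  have h2 := two_ne s.h3
  refine (mk2 s hm hm1 hF fun _ => nt).imp_right fun ⟨w, d, e⟩ => ?_
  have s' : S0 (toP : HC F →* PSp 2 F) := ⟨s.h3, toP_injective h2, fun z hz => centralizer_toP h2 hz⟩
  rcases mk2 s' hm hm1 hF (fun nsq => ⟨1, -1, one_ne_zero, neg_ne_zero.2 one_ne_zero, fun g e => by
    obtain ⟨g, rfl⟩ := QuotientGroup.mk_surjective g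
    obtain ⟨-, r, e⟩ := sp_key h2 g e
    exact nsq r (by linear_combination -e)⟩) with h | ⟨w', d', e'⟩
  · obtain ⟨z, e⟩ := s'.nZ (n := (H9.tv (Pi.single (.inr 0) 1) 1 : Sp4 F))
      (mnor fun k hk => h.conj_mem k hk _) 1
    have := (sp_key h2 _ e).1
    simp [H9.tv, Matrix.J, Matrix.vecMulVec_apply, Matrix.vecMul, dotProduct, Fintype.sum_sum_type,
      Matrix.fromBlocks, Matrix.one_apply] at this
  · exact d.iso d' s.inj s'.inj e e'

theorem S0.cen3 {ι : HC F →* G} (s : S0 ι) (P : Sylow 3 G) {c : G} (c1 : c ≠ 1)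
    (h : ∀ p ∈ (P : Subgroup G), p * c = c * p) : ∃ (g : G) (z : F), z ≠ 0 ∧ g * ι (zz z) * g⁻¹ = c := by
  have Q3 : IsPGroup 3 ((Q0 F).map ι) := (pg_of_cube fun a => Q0_cube s.h3).map ι
  obtain ⟨g, -, hg⟩ := (H5.isSylowOf_top P).exists_conj_le Q3 le_top
  have k : ∀ w ∈ (Q0 F).map ι, g⁻¹ * c * g * w = w * (g⁻¹ * c * g) := fun w hw => by
    calc _ = g⁻¹ * (c * (g * w * g⁻¹)) * g := by group
      _ = _ := by rw [← h (g * w * g⁻¹) (hg (mem_map_of_mem _ hw))]; group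
  obtain ⟨z, e⟩ := s.inZ (s.of_cz one_ne_zero (k _ (s.mm.2 (Z0_le_Q0 (zz_mem 1))))) k
  refine ⟨g, z, fun h => c1 ?_, by rw [e]; group⟩
  rw [h, zz_zero, map_one, eq_comm, mul_assoc, inv_mul_eq_one] at e
  simpa using e

end HY
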